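import Groth.Agent.Lib.Smoothing.Insep.Main
import Groth.Agent.Lib.GeomReg.Local
import Groth.Agent.S2036
import Mathlib.RingTheory.Polynomial.Basic

/-!
# Resolution in a geometrically regular algebra
-/

set_option autoImplicit false
set_option backward.isDefEq.respectTransparency false

universe u

open scoped TensorProduct
open IsLocalRing

namespace Smoothing.Insep

/-- A resolution over the polynomial ring specializes at a general point of an infinite residue domain. -/
theorem resolvable_of_twist {k A Λ : Type u} [Field k] [CommRing A] [Algebra k A] [CommRing Λ] [Algebra k Λ]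
    (φ : A →ₐ[k] Λ) (𝔮 : Ideal Λ) [𝔮.IsPrime] [Infinite (Λ ⧸ 𝔮)]
    (h : Resolvable k ((IsScalarTower.toAlgHom k Λ (Polynomial Λ)).comp φ) (𝔮.map Polynomial.C)) :
    Resolvable k φ 𝔮 := by
  obtain ⟨B, _, _, hB, g, h, hgh, hle, hne⟩ := h
  obtain ⟨f, hf, hfq⟩ := SetLike.not_le_iff_exists.1 hne
  have hf0 : f.map (Ideal.Quotient.mk 𝔮) ≠ 0 := fun h0 => hfq (by
    rw [Ideal.mem_map_C_iff]
    intro i
    have := congrArg (fun p => Polynomial.coeff p i) h0
    simp only [Polynomial.coeff_map, Polynomial.coeff_zero] at this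
    exact Ideal.Quotient.eq_zero_iff_mem.1 this)
  obtain ⟨z₀, hz₀⟩ : ∃ z, (f.map (Ideal.Quotient.mk 𝔮)).eval z ≠ 0 := by
    by_contra! hall
    exact hf0 (Polynomial.zero_of_eval_zero _ hall)
  obtain ⟨z, rfl⟩ := Ideal.Quotient.mk_surjective z₀
  let ev : Polynomial Λ →ₐ[k] Λ := (Polynomial.aeval z : Polynomial Λ →ₐ[Λ] Λ).restrictScalars k
  have hev : ∀ x, x ∈ singRad k h → ev x ∈ singRad k (ev.comp h) := fun x hx => by
    refine Ideal.radical_mono (le_of_eq (Ideal.map_mapₐ _ _)) ?_
    exact Ideal.map_radical_le _ (Ideal.mem_map_of_mem ev hx)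
  refine ⟨B, inferInstance, inferInstance, hB, g, ev.comp h, AlgHom.ext fun x => ?_, ?_,
    fun hle' => hz₀ ?_⟩
  · show ev (h (g x)) = φ x
    rw [show h (g x) = Polynomial.C (φ x) from AlgHom.congr_fun hgh x]
    exact Polynomial.aeval_C z (φ x)
  · intro x hx
    have hx' : Polynomial.C x ∈ singRad k ((IsScalarTower.toAlgHom k Λ (Polynomial Λ)).comp φ) := by
      refine Ideal.radical_mono (le_of_eq (Ideal.map_mapₐ _ _)) ?_
      exact Ideal.map_radical_le _ (Ideal.mem_map_of_mem (IsScalarTower.toAlgHom k Λ (Polynomial Λ)) hx)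
    have h2 := hev _ (hle hx')
    rwa [show ev (Polynomial.C x) = x from Polynomial.aeval_C z x] at h2
  · have h2 := hle' (hev f hf)
    rw [Polynomial.eval_map, Polynomial.eval₂_at_apply, Ideal.Quotient.eq_zero_iff_mem]
    exact h2

theorem resolvable {k A Λ : Type u} [Field k] (p : ℕ) [Fact p.Prime] [CharP k p] [CommRing A] [Algebra k A]
    [Algebra.FinitePresentation k A] [CommRing Λ] [Algebra k Λ] [IsNoetherianRing Λ]
    (hreg : CAlg.IsGeometricallyRegular k Λ) (φ : A →ₐ[k] Λ) (𝔮 : Ideal Λ) [𝔮.IsPrime]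
    (hmin : 𝔮 ∈ (singRad k φ).minimalPrimes) : Resolvable k φ 𝔮 := by
  let L := Localization.AtPrime 𝔮
  have hregL : CAlg.IsGeometricallyRegular k L := fun k' _ _ hfin => by
    haveI := hreg k' hfin
    exact GrothLib.GeomReg.isRegularRing_tensor_localization (R := k) (S := Λ) (S' := L) 𝔮.primeCompl k'
  have hfs := (Groth.Agent.S2036.result p).1 hregL
  haveI : IsRegularLocalRing L := (Groth.Agent.S2471.result.1 hfs).1
  rcases finite_or_infinite (Λ ⧸ 𝔮) with hfin | hinf
  · haveI : Finite k := Finite.of_injective (algebraMap k (Λ ⧸ 𝔮)) (algebraMap k (Λ ⧸ 𝔮)).injective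
    haveI : PerfectField k := PerfectField.ofFinite
    haveI : Algebra.IsGeometricallyReduced k 𝔮.ResidueField :=
      GrothLib.SepField.isGeometricallyReduced_of_perfectField
    exact Separable.resolvable φ 𝔮 hmin
  · exact resolvable_of_twist φ 𝔮 (resolvable_twist p φ 𝔮 hmin hfs)

end Smoothing.Insep
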