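import Groth.Agent.Lib.Smoothing.Insep.Pieces

/-!
# The ring of truncated series with coefficients in a subfield
-/

set_option autoImplicit false
set_option backward.isDefEq.respectTransparency false
set_option maxHeartbeats 400000

universe u

open scoped TensorProduct
open IsLocalRing MvPolynomial

namespace Smoothing.Insep

variable {F K T : Type u} [Field F] [Field K] [Algebra F K] [CommRing T] [Algebra F T] {d N : ℕ}

/-- The subring of a truncated ring of elements with coefficients in a subfield, with its retraction. -/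
theorem exists_coefficientRing (E : Type u) [Field E] [Algebra F E] [Algebra E K] [IsScalarTower F E K]
    (Φ : TF F d N ⊗[F] K →ₐ[F] T) (hΦ : Function.Bijective Φ) (π : T →ₐ[F] K)
    (hπσ : ∀ c, π (Φ (1 ⊗ₜ c)) = c) (hπX : ∀ i, π (Φ (Ideal.Quotient.mk _ (X i) ⊗ₜ 1)) = 0) :
    ∃ (D : Type u) (_ : CommRing D) (j : D →+* T) (R' : T →+ D),
      (∀ a w, R' (j a * w) = a * R' w) ∧ (∀ a, R' (j a) = a) ∧
      (∀ e : E, Φ (1 ⊗ₜ algebraMap E K e) ∈ Set.range j) ∧
      (∀ i, Φ (Ideal.Quotient.mk _ (X i) ⊗ₜ 1) ∈ Set.range j) ∧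
      (∀ z, π (j z) ∈ Set.range (algebraMap E K)) ∧
      ∀ z, z ∈ Set.range (Algebra.TensorProduct.map (AlgHom.id F (TF F d N)) (IsScalarTower.toAlgHom F E K)) →
        Φ z ∈ Set.range j := by
  obtain ⟨Rr, hRr, hRr1⟩ := exists_retraction (F := F) (T := TF F d N) (E := E) (K := K)
  let incl : TF F d N ⊗[F] E →ₐ[F] TF F d N ⊗[F] K :=
    Algebra.TensorProduct.map (AlgHom.id F (TF F d N)) (IsScalarTower.toAlgHom F E K)
  let j : TF F d N ⊗[F] E →ₐ[F] T := Φ.comp incl
  let Φe := AlgEquiv.ofBijective Φ hΦ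
  have hR' : ∀ a w, Rr (Φe.symm (j a * w)) = a * Rr (Φe.symm w) := fun a w => by
    rw [map_mul, show Φe.symm (j a) = incl a from Φe.symm_apply_apply _, hRr]
  have hR'j : ∀ a, Rr (Φe.symm (j a)) = a := fun a => by
    have h := hR' a 1
    rw [mul_one] at h
    rw [h, map_one Φe.symm]
    exact (congrArg (a * ·) hRr1).trans (mul_one a)
  have hj1 : ∀ e, j (1 ⊗ₜ e) = Φ (1 ⊗ₜ algebraMap E K e) := fun e => by
    show Φ (incl (1 ⊗ₜ e)) = _
    rw [Algebra.TensorProduct.map_tmul, map_one]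
    rfl
  have hjX : ∀ i, j (Ideal.Quotient.mk _ (X i) ⊗ₜ 1) = Φ (Ideal.Quotient.mk _ (X i) ⊗ₜ 1) := fun i => by
    show Φ (incl (_ ⊗ₜ 1)) = _
    rw [Algebra.TensorProduct.map_tmul, map_one]
    rfl
  refine ⟨TF F d N ⊗[F] E, inferInstance, j.toRingHom,
    Rr.toAddMonoidHom.comp Φe.symm.toLinearMap.toAddMonoidHom, hR', hR'j, fun e => ⟨_, hj1 e⟩,
    fun i => ⟨_, hjX i⟩, fun z => ?_, fun z ⟨a, ha⟩ => ⟨a, congrArg Φ ha⟩⟩
  have key : ∀ z, π (j z) ∈ (IsScalarTower.toAlgHom F E K).range := by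
    intro z
    induction z using TensorProduct.induction_on with
    | zero => rw [map_zero, map_zero]; exact zero_mem _
    | add a b ha hb => rw [map_add, map_add]; exact add_mem ha hb
    | tmul t e =>
      rw [show t ⊗ₜ[F] e = (t ⊗ₜ[F] (1 : E)) * ((1 : TF F d N) ⊗ₜ e) by
        rw [Algebra.TensorProduct.tmul_mul_tmul, mul_one, one_mul], map_mul, map_mul, hj1, hπσ]
      refine mul_mem ?_ ⟨e, rfl⟩
      obtain ⟨t, rfl⟩ := Ideal.Quotient.mk_surjective t
      let θ : MvPolynomial (Fin d) F →ₐ[F] K := (π.comp j).comp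
        ((Algebra.TensorProduct.includeLeft : TF F d N →ₐ[F] TF F d N ⊗[F] E).comp (Ideal.Quotient.mkₐ F _))
      show θ t ∈ _
      induction t using MvPolynomial.induction_on with
      | C c => rw [← MvPolynomial.algebraMap_eq, θ.commutes]; exact Subalgebra.algebraMap_mem _ c
      | add a b ha hb => rw [map_add]; exact add_mem ha hb
      | mul_X a i ha =>
        rw [map_mul, show θ (X i) = 0 by
          show π (j (Ideal.Quotient.mk _ (X i) ⊗ₜ 1)) = 0
          rw [hjX, hπX], mul_zero]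
        exact zero_mem _
  exact key z

/-- A retract of a quotient of a flat algebra, with controlled closed fibre, is smooth over the quotient. -/
theorem smooth_of_retraction {k Qp L D E : Type u} [Field k] [CommRing Qp] [IsNoetherianRing Qp] [Algebra k Qp]
    [CommRing L] [Algebra Qp L] [Module.Flat Qp L] [CommRing D] [Field E] [Algebra k E]
    [Algebra.EssFiniteType k E] (J m : Ideal Qp) [m.IsMaximal] (hJm : J ≤ m) (hm : ∃ n, m ^ n ≤ J)
    (M : Ideal L) (hM : J.map (algebraMap Qp L) = M) (j : D →+* L ⧸ M) (R' : L ⧸ M →+ D)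
    (hR' : ∀ a w, R' (j a * w) = a * R' w) (hR'j : ∀ a, R' (j a) = a) (ψ : Qp ⧸ J →+* D)
    (hψ : ∀ r, j (ψ (Ideal.Quotient.mk J r)) = Ideal.Quotient.mk M (algebraMap Qp L r))
    (ε : D →+* E) (hεs : Function.Surjective ε)
    (hεk : ∀ c, ε (ψ (algebraMap k (Qp ⧸ J) c)) = algebraMap k E c)
    (hker : RingHom.ker ε = (m.map (Ideal.Quotient.mk J)).map ψ) {ι : Type} (y : ι → Qp)
    (hy : Submodule.span E (Set.range fun i =>
      KaehlerDifferential.D k E (ε (ψ (Ideal.Quotient.mk J (y i))))) = ⊤) :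
    letI : Algebra (Qp ⧸ J) D := ψ.toAlgebra
    Algebra.Smooth (Qp ⧸ J) D := by
  subst hM
  letI : Algebra (Qp ⧸ J) D := ψ.toAlgebra
  haveI := flat_quotient_map (R := Qp) (Λ := L) J
  have hcomp : ∀ r : Qp ⧸ J, j (ψ r) = algebraMap (Qp ⧸ J) (L ⧸ J.map (algebraMap Qp L)) r := fun r => by
    obtain ⟨r, rfl⟩ := Ideal.Quotient.mk_surjective r
    exact hψ r
  let i₁ : D →ₗ[Qp ⧸ J] L ⧸ J.map (algebraMap Qp L) :=
    { toFun := j
      map_add' := map_add j
      map_smul' := fun r x => by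
        rw [RingHom.id_apply, Algebra.smul_def, Algebra.smul_def, map_mul]
        exact congrArg (· * j x) (hcomp r) }
  let r₁ : L ⧸ J.map (algebraMap Qp L) →ₗ[Qp ⧸ J] D :=
    { toFun := R'
      map_add' := map_add R'
      map_smul' := fun r x => by
        rw [RingHom.id_apply, Algebra.smul_def, Algebra.smul_def, ← hcomp, hR']
        rfl }
  haveI : Module.Flat (Qp ⧸ J) D := Module.Flat.of_retract i₁ r₁ (LinearMap.ext fun x => hR'j x)
  letI : Algebra (Qp ⧸ J) E := (ε.comp ψ).toAlgebra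
  haveI : IsScalarTower k (Qp ⧸ J) E := IsScalarTower.of_algebraMap_eq fun c => (hεk c).symm
  let εA : D →ₐ[Qp ⧸ J] E := { ε with commutes' := fun _ => rfl }
  let I : Ideal (Qp ⧸ J) := m.map (Ideal.Quotient.mk J)
  haveI : I.IsMaximal := by
    refine Ideal.IsMaximal.map_of_surjective_of_ker_le Ideal.Quotient.mk_surjective (m := m) ?_
    rw [Ideal.mk_ker]
    exact hJm
  have hI : IsNilpotent I := by
    obtain ⟨n, hn⟩ := hm
    exact ⟨n, by rw [← Ideal.map_pow, Ideal.zero_eq_bot, Ideal.map_eq_bot_iff_le_ker, Ideal.mk_ker]; exact hn⟩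
  exact smooth_of_residue (k := k) I hI εA hεs hker (fun i => Ideal.Quotient.mk J (y i)) hy

end Smoothing.Insep
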