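import Groth.Agent.Lib.SepField.Smooth
import Groth.Agent.Lib.PBasis.Field
import Mathlib.FieldTheory.IntermediateField.Adjoin.Algebra
import Mathlib.RingTheory.Smooth.Basic

/-!
# Coefficient fields adapted to a cofinite part of a differential basis
-/

set_option autoImplicit false
set_option backward.isDefEq.respectTransparency false

universe u

open scoped TensorProduct
open KaehlerDifferential

namespace Smoothing.Insep

/-- A linear map is injective if it maps a spanning family to an independent one. -/
theorem injective_of_spanning {R V W : Type*} {ι : Type*} [CommRing R] [AddCommGroup V] [Module R V]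
    [AddCommGroup W] [Module R W] (f : V →ₗ[R] W) (v : ι → V) (hv : Submodule.span R (Set.range v) = ⊤)
    (hf : LinearIndependent R (f ∘ v)) : Function.Injective f := by
  rw [injective_iff_map_eq_zero]
  intro x hx
  obtain ⟨c, rfl⟩ := (Finsupp.mem_span_range_iff_exists_finsupp).1
    (hv ▸ Submodule.mem_top : x ∈ Submodule.span R (Set.range v))
  have hc : Finsupp.linearCombination R (f ∘ v) c = 0 := by
    rw [Finsupp.linearCombination_apply]
    rw [map_finsuppSum] at hx
    simpa only [map_smul, Function.comp_apply] using hx
  rw [linearIndependent_iff.1 hf c hc, Finsupp.sum_zero_index]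

variable {F k : Type u} [Field F] [Field k] [Algebra F k]

/-- The differentials of generators of a field span. -/
theorem span_D_adjoin (s : Set k) :
    Submodule.span (IntermediateField.adjoin F s) (Set.range fun b : s =>
      D F (IntermediateField.adjoin F s) ⟨b, IntermediateField.subset_adjoin F s b.2⟩) = ⊤ := by
  set k1 := IntermediateField.adjoin F s
  set S := Submodule.span k1 (Set.range fun b : s => D F k1 ⟨b, IntermediateField.subset_adjoin F s b.2⟩)
  have key : ∀ (b : k) (hb : b ∈ k1), D F k1 ⟨b, hb⟩ ∈ S := by
    intro b hb
    induction hb using IntermediateField.adjoin_induction with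
    | mem y hy => exact Submodule.subset_span ⟨⟨y, hy⟩, rfl⟩
    | algebraMap r =>
        rw [show (⟨algebraMap F k r, _⟩ : k1) = algebraMap F k1 r from rfl, Derivation.map_algebraMap]
        exact zero_mem _
    | add x y hx hy h1 h2 =>
        rw [show (⟨x + y, _⟩ : k1) = ⟨x, hx⟩ + ⟨y, hy⟩ from rfl, map_add]
        exact add_mem h1 h2
    | inv x hx h1 =>
        rw [show (⟨x⁻¹, _⟩ : k1) = (⟨x, hx⟩ : k1)⁻¹ from rfl, Derivation.leibniz_inv]
        exact Submodule.smul_mem _ _ h1
    | mul x y hx hy h1 h2 =>
        rw [show (⟨x * y, _⟩ : k1) = ⟨x, hx⟩ * ⟨y, hy⟩ from rfl, Derivation.leibniz]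
        exact add_mem (Submodule.smul_mem _ _ h2) (Submodule.smul_mem _ _ h1)
  rw [eq_top_iff, ← KaehlerDifferential.span_range_derivation F k1, Submodule.span_le]
  rintro _ ⟨⟨b, hb⟩, rfl⟩
  exact key b hb

/-- A field extension in which part of a differential family stays independent is formally smooth over
the subfield generated by that part. -/
theorem formallySmooth_adjoin_of_indep {K : Type u} [Field K] [Algebra F K] [Algebra k K] [IsScalarTower F k K]
    [Algebra.FormallySmooth F K] (s : Set k)
    (hs : LinearIndependent K fun b : s => D F K (algebraMap k K b)) :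
    Algebra.FormallySmooth (IntermediateField.adjoin F s) K := by
  set k1 := IntermediateField.adjoin F s
  have hinj : Function.Injective (mapBaseChange F k1 K) := by
    refine injective_of_spanning _ (fun b : s =>
      (1 : K) ⊗ₜ[k1] D F k1 ⟨b, IntermediateField.subset_adjoin F s b.2⟩) ?_ ?_
    · have h := Module.Basis.ofVectorSpace k1 Ω[k1⁄F]
      rw [eq_top_iff]
      rintro z -
      induction z with
      | zero => exact zero_mem _
      | add x y hx hy => exact add_mem hx hy
      | tmul c ω =>
        rw [show c ⊗ₜ[k1] ω = c • ((1 : K) ⊗ₜ[k1] ω) by rw [TensorProduct.smul_tmul', smul_eq_mul, mul_one]]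
        refine Submodule.smul_mem _ _ ?_
        have hω : ω ∈ Submodule.span k1 (Set.range fun b : s =>
            D F k1 ⟨b, IntermediateField.subset_adjoin F s b.2⟩) := by
          rw [span_D_adjoin]; exact Submodule.mem_top
        induction hω using Submodule.span_induction with
        | mem x hx => obtain ⟨b, rfl⟩ := hx; exact Submodule.subset_span ⟨b, rfl⟩
        | zero => rw [TensorProduct.tmul_zero]; exact zero_mem _
        | add x y _ _ hx hy => rw [TensorProduct.tmul_add]; exact add_mem hx hy
        | smul a x _ hx =>
          rw [TensorProduct.tmul_smul]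
          exact Submodule.smul_of_tower_mem _ a hx
    · convert hs using 1
      funext b
      simp only [Function.comp_apply, mapBaseChange_tmul, KaehlerDifferential.map_D, one_smul]
      all_goals rfl
  exact ⟨Module.Projective.of_free, GrothLib.SepField.subsingleton_h1Cotangent_of_injective F k1 K hinj⟩

/-- A section of a nilpotent thickening of a field compatible with a part of a differential family. -/
theorem exists_section {K T : Type u} [Field K] [CommRing T] [Algebra F K] [Algebra k K] [IsScalarTower F k K]
    [Algebra F T] [Algebra k T] [IsScalarTower F k T] [Algebra.FormallySmooth F K]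
    (π : T →ₐ[k] K) (hπ : Function.Surjective π) (hn : IsNilpotent (RingHom.ker π.toRingHom)) (s : Set k)
    (hs : LinearIndependent K fun b : s => D F K (algebraMap k K b)) :
    ∃ σ : K →ₐ[F] T, (∀ x, π (σ x) = x) ∧ ∀ b ∈ s, σ (algebraMap k K b) = algebraMap k T b := by
  set k1 := IntermediateField.adjoin F s
  haveI := formallySmooth_adjoin_of_indep s hs
  let π1 : T →ₐ[k1] K := π.restrictScalars k1
  let e := Ideal.quotientKerAlgEquivOfSurjective (f := π1) hπ
  obtain ⟨f, hf⟩ := Algebra.FormallySmooth.exists_lift (RingHom.ker π1.toRingHom) hn e.symm.toAlgHom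
  refine ⟨f.restrictScalars F, fun x => ?_, fun b hb => ?_⟩
  · have h1 : Ideal.Quotient.mkₐ k1 (RingHom.ker π1.toRingHom) (f x) = e.symm x := AlgHom.congr_fun hf x
    have h2 := congrArg e h1
    rw [AlgEquiv.apply_symm_apply] at h2
    exact h2
  · exact f.commutes ⟨b, IntermediateField.subset_adjoin F s hb⟩

/-- A subfield containing a high `p`-power subfield and a differential spanning set is everything. -/
theorem subfield_eq_top (p : ℕ) [Fact p.Prime] [CharP k p] [ExpChar F p] [PerfectRing F p] (B : Set k)
    (hB : Submodule.span k (D F k '' B) = ⊤) (S : Subfield k) (hBS : B ⊆ S) (e : ℕ)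
    (he : ∀ x : k, x ^ p ^ e ∈ S) : S = ⊤ := by
  have hgen : GrothLib.PBasis.genField p F B = ⊤ := by
    have h := (GrothLib.PBasis.isPGenerating_iff_span (p := p) (k := F) (Subtype.val : B → k)).2 (by
      rw [← hB, Set.image_eq_range])
    rwa [GrothLib.PBasis.isPGenerating_iff, Subtype.range_coe] at h
  induction e with
  | zero => exact eq_top_iff.2 fun x _ => by simpa using he x
  | succ e ih =>
    refine ih fun x => ?_
    have hx : x ∈ GrothLib.PBasis.genField p F B := hgen ▸ IntermediateField.mem_top
    have hpow : ∀ y : k, (y ^ p) ^ p ^ e ∈ S := fun y => by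
      rw [← pow_mul, ← pow_succ']; exact he y
    induction hx using IntermediateField.adjoin_induction with
    | mem y hy =>
        rcases hy with ⟨z, rfl⟩ | hy
        · exact hpow z
        · exact pow_mem (hBS hy) _
    | algebraMap r =>
        obtain ⟨c, rfl⟩ := surjective_frobenius F p r
        rw [frobenius_def, map_pow]
        exact hpow _
    | add y z _ _ h1 h2 => rw [add_pow_char_pow]; exact add_mem h1 h2
    | inv y _ h1 => rw [inv_pow]; exact inv_mem h1
    | mul y z _ _ h1 h2 => rw [mul_pow]; exact mul_mem h1 h2

end Smoothing.Insep
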