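import Groth.Agent.Lib.Smoothing.Parameters
import Mathlib.RingTheory.Polynomial.Basic

/-!
# Exponents making scaled parameters satisfy the annihilator condition
-/

set_option autoImplicit false
set_option backward.isDefEq.respectTransparency false

open IsLocalRing

namespace Smoothing.Insep

universe u

/-- The ideal of powers of the earlier members of a family. -/
abbrev prevIdeal {S : Type u} [CommRing S] {d : ℕ} (G : Fin d → S) (e : ℕ) (i : Fin d) : Ideal S :=
  Ideal.span (Set.range fun j : {j : Fin d // (j : ℕ) < i} => G j ^ e)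

theorem prevIdeal_map {S T : Type u} [CommRing S] [CommRing T] (f : S →+* T) {d : ℕ} (G : Fin d → S) (e : ℕ)
    (i : Fin d) : (prevIdeal G e i).map f = prevIdeal (fun j => f (G j)) e i := by
  rw [prevIdeal, Ideal.map_span, ← Set.range_comp]
  exact congrArg Ideal.span (congrArg Set.range (funext fun j => map_pow f _ _))

/-- Clearing the denominators in the regularity of parameters. -/
theorem exists_killer {S L : Type u} [CommRing S] [IsNoetherianRing S] [CommRing L] [Algebra S L]
    [IsRegularLocalRing L] (q : Ideal S) [q.IsPrime] [IsLocalization.AtPrime L q] {d : ℕ}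
    (hd : ringKrullDim L = d) (G : Fin d → S)
    (hG : Ideal.span (Set.range fun i => algebraMap S L (G i)) = maximalIdeal L) {e : ℕ} (he : 0 < e) :
    ∃ t : S, t ∉ q ∧ ∀ i, ∀ x : S, G i ^ 2 * x ∈ prevIdeal G e i → t * x ∈ prevIdeal G e i := by
  classical
  have hloc : ∀ i : Fin d, ∃ t : q.primeCompl, ∀ x : S, G i ^ 2 * x ∈ prevIdeal G e i →
      (t : S) * x ∈ prevIdeal G e i := by
    intro i
    let J := prevIdeal G e i
    let Kc : Ideal S := J.colon ({G i ^ 2} : Set S)
    obtain ⟨B, hB⟩ := (IsNoetherian.noetherian Kc : Kc.FG)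
    have hB' : ∀ x ∈ B, ∃ t : q.primeCompl, (t : S) * x ∈ J := by
      intro x hx
      have h0 : x ∈ Kc := hB ▸ Submodule.subset_span hx
      rw [Submodule.mem_colon_singleton, smul_eq_mul, mul_comm] at h0
      have h1 := Ideal.mem_map_of_mem (algebraMap S L) h0
      rw [map_mul, pow_two, map_mul, mul_assoc, prevIdeal_map] at h1
      have h2 := Smoothing.mem_of_mul_mem_span_pow hd _ hG he i _
        (Smoothing.mem_of_mul_mem_span_pow hd _ hG he i _ h1)
      have h3 : algebraMap S L x ∈ J.map (algebraMap S L) := by rw [prevIdeal_map]; exact h2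
      obtain ⟨t, ht, hh⟩ := (IsLocalization.algebraMap_mem_map_algebraMap_iff q.primeCompl L J x).1 h3
      exact ⟨⟨t, ht⟩, hh⟩
    choose t ht using hB'
    refine ⟨∏ x : B, t x.1 x.2, fun x hx => ?_⟩
    have hle : Kc ≤ J.colon ({((∏ x : B, t x.1 x.2 : q.primeCompl) : S)} : Set S) := by
      rw [← hB]
      refine Submodule.span_le.2 fun y hy => ?_
      show y ∈ J.colon ({((∏ x : B, t x.1 x.2 : q.primeCompl) : S)} : Set S)
      rw [Submodule.mem_colon_singleton, smul_eq_mul]
      obtain ⟨c, hc⟩ : t y hy ∣ ∏ x : B, t x.1 x.2 :=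
        Finset.dvd_prod_of_mem (fun x : B => t x.1 x.2) (Finset.mem_univ (⟨y, hy⟩ : B))
      rw [hc, Submonoid.coe_mul, ← mul_assoc, mul_comm y]
      exact Ideal.mul_mem_right _ _ (ht y hy)
    have h1 : x ∈ Kc := by
      rw [Submodule.mem_colon_singleton, smul_eq_mul, mul_comm]
      exact hx
    have h2 := hle h1
    rwa [Submodule.mem_colon_singleton, smul_eq_mul, mul_comm] at h2
  choose t ht using hloc
  refine ⟨((∏ i, t i : q.primeCompl) : S), (∏ i, t i).2, fun i x hx => ?_⟩
  obtain ⟨c, hc⟩ := Finset.dvd_prod_of_mem t (Finset.mem_univ i)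
  rw [hc, Submonoid.coe_mul, mul_comm (t i : S), mul_assoc]
  exact Ideal.mul_mem_left _ _ (ht i x hx)

/-- A killer stays a killer in the polynomial ring. -/
theorem killer_polynomial {S : Type u} [CommRing S] {d : ℕ} (G : Fin d → S) (e : ℕ) (t : S) (i : Fin d)
    (ht : ∀ x : S, G i ^ 2 * x ∈ prevIdeal G e i → t * x ∈ prevIdeal G e i) (x : Polynomial S)
    (hx : Polynomial.C (G i) ^ 2 * x ∈ prevIdeal (fun j => Polynomial.C (G j)) e i) :
    Polynomial.C t * x ∈ prevIdeal (fun j => Polynomial.C (G j)) e i := by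
  rw [← prevIdeal_map, Ideal.mem_map_C_iff] at hx ⊢
  intro l
  have h := hx l
  rw [← Polynomial.C_pow, Polynomial.coeff_C_mul] at h
  rw [Polynomial.coeff_C_mul]
  exact ht _ h

/-- A large power of the killer gives the annihilator condition for one member of the family. -/
theorem exists_exponent {S : Type u} [CommRing S] [IsNoetherianRing S] {d : ℕ} (G : Fin d → S) (e : ℕ) (v : S)
    (i : Fin d) (hv : ∀ x, G i ^ 2 * x ∈ prevIdeal G e i → v * x ∈ prevIdeal G e i) (m : Fin d → ℕ) :
    ∃ b, ∀ c, b ≤ c → ∀ x, (v ^ c * G i) ^ 2 * x ∈ prevIdeal (fun j => v ^ m j * G j) e i →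
      v ^ c * G i * x ∈ prevIdeal (fun j => v ^ m j * G j) e i := by
  classical
  set J := prevIdeal (fun j => v ^ m j * G j) e i
  let Lk : ℕ →o Ideal S :=
    ⟨fun l => J.colon ({v ^ l} : Set S), monotone_nat_of_le_succ fun l x hx => by
      rw [Submodule.mem_colon_singleton, smul_eq_mul] at hx ⊢
      rw [pow_succ, ← mul_assoc]
      exact Ideal.mul_mem_right _ _ hx⟩
  obtain ⟨b, hb⟩ := (monotone_stabilizes_iff_noetherian.2 (inferInstance : IsNoetherian S S)) Lk
  refine ⟨b, fun c hc x hx => ?_⟩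
  have hJle : J ≤ prevIdeal G e i := Ideal.span_le.2 (by
    rintro _ ⟨j, rfl⟩
    show (v ^ m j * G j) ^ e ∈ prevIdeal G e i
    rw [mul_pow]
    exact Ideal.mul_mem_left _ _ (Ideal.subset_span ⟨j, rfl⟩))
  have h1 : v * (v ^ (2 * c) * x) ∈ prevIdeal G e i := hv _ (by
    convert hJle hx using 1
    ring)
  let E := ∑ j, m j * e
  have hGle : ∀ y ∈ prevIdeal G e i, v ^ E * y ∈ J := by
    intro y hy
    induction hy using Submodule.span_induction with
    | mem y hy =>
      obtain ⟨j, rfl⟩ := hy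
      obtain ⟨w, hw⟩ := Nat.exists_eq_add_of_le
        (Finset.single_le_sum (fun j _ => Nat.zero_le (m j * e)) (Finset.mem_univ j.1))
      show v ^ E * G j ^ e ∈ J
      rw [show v ^ E * G j ^ e = v ^ w * (v ^ m j * G j) ^ e by
        rw [show E = m j * e + w from hw, mul_pow, pow_add, ← pow_mul]; ring]
      exact Ideal.mul_mem_left _ _ (Ideal.subset_span ⟨j, rfl⟩)
    | zero => rw [mul_zero]; exact J.zero_mem
    | add a b _ _ ha hb => rw [mul_add]; exact J.add_mem ha hb
    | smul a y _ hy => rw [smul_eq_mul, mul_left_comm]; exact J.mul_mem_left _ hy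
  have h2 : x ∈ Lk (E + (1 + 2 * c)) := by
    show x ∈ J.colon ({_} : Set S)
    rw [Submodule.mem_colon_singleton, smul_eq_mul]
    convert hGle _ h1 using 1
    ring
  rw [← hb (E + (1 + 2 * c)) (by omega), hb c hc] at h2
  change x ∈ J.colon ({v ^ c} : Set S) at h2
  rw [Submodule.mem_colon_singleton, smul_eq_mul] at h2
  rw [mul_assoc, mul_left_comm, mul_comm (v ^ c)]
  exact J.mul_mem_left _ h2

/-- Choosing a family by recursion along the index. -/
theorem exists_family {d : ℕ} (P : Fin d → (Fin d → ℕ) → Prop)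
    (hloc : ∀ (i : Fin d) (m m' : Fin d → ℕ), (∀ j : Fin d, (j : ℕ) ≤ i → m j = m' j) → P i m → P i m')
    (h : ∀ i m, ∃ b, ∀ c, b ≤ c → P i (Function.update m i c)) (lb : ℕ) :
    ∃ m, ∀ i, lb ≤ m i ∧ P i m := by
  classical
  have key : ∀ k, k ≤ d → ∃ m : Fin d → ℕ, ∀ j : Fin d, (j : ℕ) < k → lb ≤ m j ∧ P j m := by
    intro k
    induction k with
    | zero => exact fun _ => ⟨fun _ => 0, fun j hj => absurd hj (Nat.not_lt_zero _)⟩
    | succ k ih =>
      intro hk
      obtain ⟨m, hm⟩ := ih (k.le_succ.trans hk)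
      let kk : Fin d := ⟨k, hk⟩
      obtain ⟨b, hb⟩ := h kk m
      refine ⟨Function.update m kk (b + lb), fun j hj => ?_⟩
      rcases Nat.lt_succ_iff_lt_or_eq.1 hj with hlt | heq
      · have hne : j ≠ kk := fun h => by rw [h] at hlt; exact lt_irrefl k hlt
        rw [Function.update_of_ne hne]
        refine ⟨(hm j hlt).1, hloc j m _ (fun l hl => ?_) (hm j hlt).2⟩
        rw [Function.update_of_ne fun h => ?_]
        rw [h] at hl
        exact lt_irrefl k (lt_of_le_of_lt hl hlt)
      · obtain rfl : j = kk := Fin.ext heq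
        exact ⟨by rw [Function.update_self]; exact Nat.le_add_left _ _, hb _ (Nat.le_add_right _ _)⟩
  obtain ⟨m, hm⟩ := key d le_rfl
  exact ⟨m, fun i => hm i i.2⟩

/-- Common exponents for scaled families in two rings. -/
theorem exists_exponents {S T : Type u} [CommRing S] [IsNoetherianRing S] [CommRing T] [IsNoetherianRing T]
    {d : ℕ} (G : Fin d → S) (H : Fin d → T) (e : ℕ) (v : S) (w : T)
    (hv : ∀ i x, G i ^ 2 * x ∈ prevIdeal G e i → v * x ∈ prevIdeal G e i)
    (hw : ∀ i x, H i ^ 2 * x ∈ prevIdeal H e i → w * x ∈ prevIdeal H e i) :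
    ∃ m : Fin d → ℕ, ∀ i, 1 ≤ m i ∧
      (∀ x, (v ^ m i * G i) ^ 2 * x ∈ prevIdeal (fun j => v ^ m j * G j) e i →
        v ^ m i * G i * x ∈ prevIdeal (fun j => v ^ m j * G j) e i) ∧
      ∀ x, (w ^ m i * H i) ^ 2 * x ∈ prevIdeal (fun j => w ^ m j * H j) e i →
        w ^ m i * H i * x ∈ prevIdeal (fun j => w ^ m j * H j) e i := by
  refine exists_family (fun (i : Fin d) (m : Fin d → ℕ) =>
      (∀ x, (v ^ m i * G i) ^ 2 * x ∈ prevIdeal (fun j => v ^ m j * G j) e i →
        v ^ m i * G i * x ∈ prevIdeal (fun j => v ^ m j * G j) e i) ∧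
      ∀ x, (w ^ m i * H i) ^ 2 * x ∈ prevIdeal (fun j => w ^ m j * H j) e i →
        w ^ m i * H i * x ∈ prevIdeal (fun j => w ^ m j * H j) e i) (fun i m m' hmm' hP => ?_) (fun i m => ?_) 1
  · obtain ⟨h1, h2⟩ := hP
    have e1 : ∀ {R : Type u} [CommRing R] (u : R) (K : Fin d → R),
        prevIdeal (fun j => u ^ m j * K j) e i = prevIdeal (fun j => u ^ m' j * K j) e i := fun u K =>
      congrArg Ideal.span (congrArg Set.range (funext fun j => by simp only [hmm' j.1 j.2.le]))
    rw [hmm' i le_rfl, e1] at h1 h2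
    exact ⟨h1, h2⟩
  · obtain ⟨b₁, hb₁⟩ := exists_exponent G e v i (hv i) m
    obtain ⟨b₂, hb₂⟩ := exists_exponent H e w i (hw i) m
    refine ⟨b₁ + b₂, fun c hc => ?_⟩
    have e1 : ∀ {R : Type u} [CommRing R] (u : R) (K : Fin d → R),
        prevIdeal (fun j => u ^ Function.update m i c j * K j) e i = prevIdeal (fun j => u ^ m j * K j) e i :=
      fun u K => congrArg Ideal.span (congrArg Set.range (funext fun j => by
        simp only []
        rw [Function.update_of_ne fun h => ?_]
        have := j.2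
        rw [h] at this
        exact lt_irrefl _ this))
    rw [Function.update_self, e1, e1]
    exact ⟨hb₁ c (le_trans (Nat.le_add_right _ _) hc), hb₂ c (le_trans (Nat.le_add_left _ _) hc)⟩

end Smoothing.Insep
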