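import Groth.Agent.Lib.Smoothing.Insep.TwistTools
import Groth.Agent.Lib.Smoothing.Insep.Exponents

/-!
# The model over an abstract smooth base
-/

set_option autoImplicit false
set_option backward.isDefEq.respectTransparency false
set_option maxHeartbeats 800000

universe u

open scoped TensorProduct

namespace Smoothing.Insep

/-- Base change of the model along the parameters, resolved modulo their powers, resolves the problem. -/
theorem resolvable_of_model {k A R S Cm Rp Λq B : Type u} [Field k] [CommRing A] [Algebra k A]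
    [CommRing R] [IsNoetherianRing R] [Algebra k R] [Algebra.FinitePresentation k R] [Algebra.FormallySmooth k R]
    [CommRing S] [Algebra k S] [Algebra R S] [IsScalarTower k R S] (q' : Ideal S) [q'.IsPrime] {d : ℕ}
    [CommRing Cm] [Algebra (MvPolynomial (Fin d) k) Cm] [Algebra k Cm]
    [IsScalarTower k (MvPolynomial (Fin d) k) Cm] [Algebra.FinitePresentation (MvPolynomial (Fin d) k) Cm]
    {r : ℕ} (a : Fin r → A) (ha : singularIdeal k A = Ideal.span (Set.range a)) (γ : A →ₐ[k] Cm) (M : ℕ)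
    (hM : 0 < M)
    (hstd : ∀ i, IsStrictlyStandard (MvPolynomial (Fin d) k) Cm
      (algebraMap (MvPolynomial (Fin d) k) Cm (MvPolynomial.X i ^ M)))
    (hγ : ∀ l, γ (a l) ∈ singularIdeal (MvPolynomial (Fin d) k) Cm)
    (φ₁ : A →ₐ[k] S) (P : Fin d → R) (Pw : Fin d → S) (hPw : ∀ i, algebraMap R S (P i) = Pw i)
    (hPq : ∀ i, Pw i ∈ q')
    (hR : ∀ i x, P i ^ 2 * x ∈ prevIdeal P (M * 8) i → P i * x ∈ prevIdeal P (M * 8) i)
    (hS : ∀ i x, Pw i ^ 2 * x ∈ prevIdeal Pw (M * 8) i → Pw i * x ∈ prevIdeal Pw (M * 8) i)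
    [CommRing Rp] [CommRing Λq] [CommRing B] [Algebra Rp B] [Algebra.Smooth Rp B]
    (ρ : R →+* Rp) (σ : S →+* Λq) (f : Rp →+* Λq) (hf : ∀ x, f (ρ x) = σ (algebraMap R S x)) (h : B →+* Λq)
    (hhR : ∀ x, h (algebraMap Rp B x) = f x) (K : Ideal R)
    (hK : K = Ideal.span (Set.range fun i => (P i ^ M) ^ 8))
    (hmod : ∀ (Cb B : Type u) [CommRing Cb] [Algebra R Cb] [Algebra.FinitePresentation R Cb] (ψ : Cb →ₐ[R] S)
        [CommRing B] [Algebra Rp B] [Algebra.Smooth Rp B] (g : Cb →+* B) (h : B →+* Λq),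
        (∀ r, h (algebraMap Rp B r) = f r) → (∀ r, g (algebraMap R Cb r) = algebraMap Rp B (ρ r)) →
        (∀ x, h (g x) = σ (ψ x)) →
        ∃ φK : (Cb ⧸ K.map (algebraMap R Cb)) →ₐ[R ⧸ K] (S ⧸ K.map (algebraMap R S)),
          (∀ x, φK (Ideal.Quotient.mk _ x) = Ideal.Quotient.mk _ (ψ x)) ∧
          Resolvable (R ⧸ K) φK (q'.map (Ideal.Quotient.mk (K.map (algebraMap R S)))))
    (ψ₁ : Cm →ₐ[k] S) (ψ₂ : Cm →+* B) (hψ₁γ : ψ₁.comp γ = φ₁)
    (hψ₁X : ∀ i, ψ₁ (algebraMap (MvPolynomial (Fin d) k) Cm (MvPolynomial.X i)) = Pw i)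
    (hψ₂X : ∀ i, ψ₂ (algebraMap (MvPolynomial (Fin d) k) Cm (MvPolynomial.X i)) = algebraMap Rp B (ρ (P i)))
    (hψ₂k : ∀ c, ψ₂ (algebraMap k Cm c) = algebraMap Rp B (ρ (algebraMap k R c)))
    (hψ : ∀ x, σ (ψ₁ x) = h (ψ₂ x)) : Resolvable k φ₁ q' := by
  let R0 := MvPolynomial (Fin d) k
  letI : Algebra R0 R := (MvPolynomial.aeval P : R0 →ₐ[k] R).toRingHom.toAlgebra
  haveI : IsScalarTower k R0 R :=
    IsScalarTower.of_algebraMap_eq fun c => ((MvPolynomial.aeval P : R0 →ₐ[k] R).commutes c).symm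
  have hXP : ∀ i, algebraMap R0 R (MvPolynomial.X i) = P i := fun i => MvPolynomial.aeval_X P i
  letI : Algebra R0 S := ((algebraMap R S).comp (algebraMap R0 R)).toAlgebra
  haveI : IsScalarTower R0 R S := IsScalarTower.of_algebraMap_eq fun _ => rfl
  letI : Algebra R B := ((algebraMap Rp B).comp ρ).toAlgebra
  letI : Algebra R0 B := ((algebraMap R B).comp (algebraMap R0 R)).toAlgebra
  haveI : IsScalarTower R0 R B := IsScalarTower.of_algebraMap_eq fun _ => rfl
  have hψ₁0 : ∀ x : R0, ψ₁ (algebraMap R0 Cm x) = algebraMap R0 S x := by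
    have : ψ₁.toRingHom.comp (algebraMap R0 Cm) = algebraMap R0 S := by
      refine MvPolynomial.ringHom_ext (fun c => ?_) (fun i => ?_)
      · show ψ₁ (algebraMap R0 Cm (algebraMap k R0 c)) = algebraMap R S (algebraMap R0 R (algebraMap k R0 c))
        rw [← IsScalarTower.algebraMap_apply k R0 Cm, ψ₁.commutes, ← IsScalarTower.algebraMap_apply k R0 R,
          ← IsScalarTower.algebraMap_apply k R S]
      · show ψ₁ (algebraMap R0 Cm (MvPolynomial.X i)) = algebraMap R S (algebraMap R0 R (MvPolynomial.X i))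
        rw [hψ₁X, hXP, hPw]
    exact fun x => RingHom.congr_fun this x
  have hψ₂0 : ∀ x : R0, ψ₂ (algebraMap R0 Cm x) = algebraMap R0 B x := by
    have : ψ₂.comp (algebraMap R0 Cm) = algebraMap R0 B := by
      refine MvPolynomial.ringHom_ext (fun c => ?_) (fun i => ?_)
      · show ψ₂ (algebraMap R0 Cm (algebraMap k R0 c)) = algebraMap Rp B (ρ (algebraMap R0 R (algebraMap k R0 c)))
        rw [← IsScalarTower.algebraMap_apply k R0 Cm, hψ₂k, ← IsScalarTower.algebraMap_apply k R0 R]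
      · show ψ₂ (algebraMap R0 Cm (MvPolynomial.X i)) = algebraMap Rp B (ρ (algebraMap R0 R (MvPolynomial.X i)))
        rw [hψ₂X, hXP]
    exact fun x => RingHom.congr_fun this x
  let Cb := R ⊗[R0] Cm
  let ψ : Cb →ₐ[R] S :=
    Algebra.TensorProduct.lift (Algebra.ofId R S) (AlgHom.mk ψ₁.toRingHom hψ₁0) fun _ _ => Commute.all _ _
  let gB : Cb →ₐ[R] B :=
    Algebra.TensorProduct.lift (Algebra.ofId R B) (AlgHom.mk ψ₂ hψ₂0) fun _ _ => Commute.all _ _
  have hgB : ∀ x, h (gB x) = σ (ψ x) := by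
    intro x
    induction x using TensorProduct.induction_on with
    | zero => rw [map_zero, map_zero, map_zero, map_zero]
    | add x y hx hy => rw [map_add, map_add, map_add, map_add, hx, hy]
    | tmul r c =>
      show h (Algebra.TensorProduct.lift _ _ _ (r ⊗ₜ c)) = σ (Algebra.TensorProduct.lift _ _ _ (r ⊗ₜ c))
      rw [Algebra.TensorProduct.lift_tmul, Algebra.TensorProduct.lift_tmul, map_mul, map_mul]
      refine congrArg₂ (· * ·) ?_ (hψ c).symm
      show h (algebraMap Rp B (ρ r)) = σ (algebraMap R S r)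
      rw [hhR, hf]
  obtain ⟨φK, hφK, hresK⟩ := hmod Cb B ψ gB.toRingHom h hhR (fun x => gB.commutes x) hgB
  have hprev : ∀ {T : Type u} [CommRing T] (F : Fin d → T) (i : Fin d),
      Ideal.span (Set.range fun l : {l : Fin d // (l : ℕ) < i} => (F l ^ M) ^ 8) = prevIdeal F (M * 8) i :=
    fun F i => congrArg Ideal.span (congrArg Set.range (funext fun l => (pow_mul _ _ _).symm))
  have hres : Resolvable R ψ q' := by
    refine resolvable_mod_pow_eight ψ q' (fun i => P i ^ M) (fun i => ?_) (fun i x hx => ?_) (fun i x hx => ?_)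
      (fun i => ?_) K hK φK hφK hresK
    · rw [map_pow, hPw]
      exact Ideal.pow_mem_of_mem _ (hPq i) M hM
    · obtain ⟨x, rfl⟩ := Ideal.Quotient.mk_surjective x
      rw [← map_pow, ← map_mul, Ideal.Quotient.eq_zero_iff_mem, hprev] at hx
      rw [← map_mul, Ideal.Quotient.eq_zero_iff_mem, hprev]
      exact Separable.ann_of_pow (P i) _ (hR i) M hM x hx
    · obtain ⟨x, rfl⟩ := Ideal.Quotient.mk_surjective x
      have hsp : Ideal.span (Set.range fun l : {l : Fin d // (l : ℕ) < i} =>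
          algebraMap R S (P l ^ M) ^ 8) = prevIdeal Pw (M * 8) i := by
        rw [← hprev]
        exact congrArg Ideal.span (congrArg Set.range (funext fun l => by rw [map_pow, hPw]))
      rw [← map_pow, ← map_mul, Ideal.Quotient.eq_zero_iff_mem, hsp, map_pow (algebraMap R S), hPw] at hx
      rw [← map_mul, Ideal.Quotient.eq_zero_iff_mem, hsp, map_pow (algebraMap R S), hPw]
      exact Separable.ann_of_pow (Pw i) _ (hS i) M hM x hx
    · have e : algebraMap R Cb (P i ^ M) = (1 : R) ⊗ₜ[R0] algebraMap R0 Cm (MvPolynomial.X i ^ M) := by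
        rw [← hXP, ← map_pow, Algebra.TensorProduct.algebraMap_apply, Algebra.algebraMap_self, RingHom.id_apply,
          Algebra.algebraMap_eq_smul_one (A := Cm), TensorProduct.tmul_smul, TensorProduct.smul_tmul',
          ← Algebra.algebraMap_eq_smul_one]
      rw [e]
      exact (Smoothing.isStandard_baseChange (R' := R) _).2 (hstd i)
  let incl : Cm →ₐ[R0] Cb := Algebra.TensorProduct.includeRight
  refine resolvable_restrict (incl.toRingHom.comp γ.toRingHom) (fun c => ?_) ψ φ₁ (fun x => ?_) a ha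
    (fun l => tmul_mem_singularIdeal (hγ l)) q' hres
  · show incl (γ (algebraMap k A c)) = _
    rw [γ.commutes, IsScalarTower.algebraMap_apply k R0 Cm, incl.commutes, IsScalarTower.algebraMap_apply R0 R Cb,
      ← IsScalarTower.algebraMap_apply k R0 R]
  · show Algebra.TensorProduct.lift _ _ _ ((1 : R) ⊗ₜ[R0] γ x) = _
    rw [Algebra.TensorProduct.lift_tmul, map_one, one_mul]
    exact AlgHom.congr_fun hψ₁γ x

end Smoothing.Insep
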