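import Groth.Agent.Lib.Smoothing.Insep.LocalData

/-!
# Global equations lifting the local data
-/

set_option autoImplicit false
set_option backward.isDefEq.respectTransparency false
set_option maxHeartbeats 800000

universe u

open IsLocalRing MvPolynomial

namespace Smoothing.Insep

/-- Local data with the equations solved in the coefficient algebra and, compatibly, in the global ring. -/
theorem exists_globalData {k A Λ : Type u} [Field k] (p : ℕ) [Fact p.Prime] [CharP k p] [CommRing A] [Algebra k A]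
    [Algebra.FiniteType k A] [CommRing Λ] [Algebra k Λ] [IsNoetherianRing Λ] (φ : A →ₐ[k] Λ) (𝔮 : Ideal Λ)
    [𝔮.IsPrime] [IsRegularLocalRing (Localization.AtPrime 𝔮)]
    (hfs : CAlgX.IsAdicFormallySmooth k (Localization.AtPrime 𝔮) (maximalIdeal (Localization.AtPrime 𝔮)))
    (d : ℕ) (hd : ringKrullDim (Localization.AtPrime 𝔮) = d) {r : ℕ} (a : Fin r → A) (n : ℕ)
    (hn : maximalIdeal (Localization.AtPrime 𝔮) ^ n ≤
      Ideal.span (Set.range fun l => algebraMap Λ (Localization.AtPrime 𝔮) (φ (a l))))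
    (N : ℕ) (hN : 0 < N) :
    ∃ (ι : Type) (_ : Fintype ι) (η : ι → Λ) (g : Fin d → MvPolynomial ι k),
      (∀ i, g i ∈ evalPrime (k := k) η 𝔮) ∧
      Ideal.span (Set.range fun i => algebraMap _ (Localization.AtPrime (evalPrime (k := k) η 𝔮)) (g i)) =
        maximalIdeal (Localization.AtPrime (evalPrime (k := k) η 𝔮)) ∧
      ringKrullDim (Localization.AtPrime (evalPrime (k := k) η 𝔮)) = d ∧
      Ideal.span (Set.range fun i => algebraMap Λ (Localization.AtPrime 𝔮) (aeval η (g i))) =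
        maximalIdeal (Localization.AtPrime 𝔮) ∧
      ∃ (D : Type u) (iD : CommRing.{u} D) (iA : Algebra (Qtr (k := k) η 𝔮 (N + n)) D)
        (j : D →+* Localization.AtPrime 𝔮 ⧸ maximalIdeal (Localization.AtPrime 𝔮) ^ (N + n))
        (φD : A →+* D) (μ : Fin d → Fin r → D) (T : Λ) (ν : Fin d → Fin r → Λ),
        Algebra.Smooth (Qtr (k := k) η 𝔮 (N + n)) D ∧
        (∀ q : MvPolynomial ι k, j ((iA.algebraMap) (toQtr η 𝔮 (N + n) q)) =
          Ideal.Quotient.mk _ (algebraMap Λ (Localization.AtPrime 𝔮) (aeval η q))) ∧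
        (∀ x, j (φD x) = Ideal.Quotient.mk _ (algebraMap Λ (Localization.AtPrime 𝔮) (φ x))) ∧
        (∀ c, φD (algebraMap k A c) = (iA.algebraMap) (toQtr η 𝔮 (N + n) (C c))) ∧
        (∀ i, (iA.algebraMap) (toQtr η 𝔮 (N + n) (g i)) ^ n = ∑ l, μ i l * φD (a l)) ∧
        T ∉ 𝔮 ∧ (∀ i, T * aeval η (g i) ^ n = ∑ l, ν i l * φ (a l)) ∧
        ∀ i l, j (μ i l) * Ideal.Quotient.mk _ (algebraMap Λ (Localization.AtPrime 𝔮) T) -
            Ideal.Quotient.mk _ (algebraMap Λ (Localization.AtPrime 𝔮) (ν i l)) ∈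
          (maximalIdeal (Localization.AtPrime 𝔮) ^ N).map (Ideal.Quotient.mk _) := by
  classical
  let L := Localization.AtPrime 𝔮
  let m := maximalIdeal L
  obtain ⟨G, hG⟩ := ‹Algebra.FiniteType k A›.out
  let φb : A →+* L ⧸ m ^ (N + n) :=
    ((Ideal.Quotient.mk (m ^ (N + n))).comp (algebraMap Λ L)).comp φ.toRingHom
  obtain ⟨ι, _, η, g, hgP, hspanQ, hdimQ, hgL, D, _, iA, j, hsm, hjinj, hjc, hseeds, hdesc⟩ :=
    exists_localData p 𝔮 hfs d hd (N + n) (by omega) (G.image φb)
  have hφr : ∀ x, φb x ∈ j.range := by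
    intro x
    have hx : x ∈ Algebra.adjoin k (G : Set A) := hG ▸ Algebra.mem_top
    induction hx using Algebra.adjoin_induction with
    | mem x hx => exact hseeds (Finset.mem_coe.2 (Finset.mem_image_of_mem φb hx))
    | algebraMap c =>
      refine ⟨iA.algebraMap (toQtr η 𝔮 (N + n) (C c)), (hjc _).trans ?_⟩
      rw [aeval_C, ← φ.commutes]
      rfl
    | add x y _ _ hx hy => rw [map_add]; exact add_mem hx hy
    | mul x y _ _ hx hy => rw [map_mul]; exact mul_mem hx hy
  let eR : D ≃+* j.range :=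
    RingEquiv.ofBijective j.rangeRestrict
      ⟨fun a b h => hjinj (congrArg Subtype.val h), j.rangeRestrict_surjective⟩
  let φD : A →+* D := eR.symm.toRingHom.comp (φb.codRestrict j.range hφr)
  have hjφ : ∀ x, j (φD x) = φb x := fun x =>
    congrArg Subtype.val (eR.apply_symm_apply ⟨φb x, hφr x⟩)
  have hk : ∀ c, φD (algebraMap k A c) = iA.algebraMap (toQtr η 𝔮 (N + n) (C c)) := fun c => hjinj (by
    rw [hjφ, hjc, aeval_C, ← φ.commutes]
    rfl)
  have hgm : ∀ i, algebraMap Λ L (aeval η (g i)) ∈ m := fun i => hgL.le (Ideal.subset_span ⟨i, rfl⟩)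
  have hgD : ∀ i, iA.algebraMap (toQtr η 𝔮 (N + n) (g i)) ^ n ∈ Ideal.span (Set.range fun l => φD (a l)) := by
    intro i
    refine hdesc r (fun l => φD (a l)) _ ?_
    rw [map_pow, hjc, ← map_pow]
    have h1 := Ideal.mem_map_of_mem (Ideal.Quotient.mk (m ^ (N + n))) (hn (Ideal.pow_mem_pow (hgm i) n))
    rw [Ideal.map_span, ← Set.range_comp] at h1
    convert h1 using 3
    exact funext fun l => hjφ (a l)
  choose μ hμ using fun i => Ideal.mem_span_range_iff_exists_fun.1 (hgD i)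
  -- exact equations in the local ring
  choose μ₀ hμ₀ using fun i l => Ideal.Quotient.mk_surjective (I := m ^ (N + n)) (j (μ i l))
  have hexact : ∀ i, ∃ μ₁ : Fin r → L, (∀ l, μ₁ l - μ₀ i l ∈ m ^ N) ∧
      algebraMap Λ L (aeval η (g i)) ^ n = ∑ l, μ₁ l * algebraMap Λ L (φ (a l)) := by
    intro i
    let err := algebraMap Λ L (aeval η (g i)) ^ n - ∑ l, μ₀ i l * algebraMap Λ L (φ (a l))
    have herr : err ∈ m ^ (N + n) := by
      rw [← Ideal.Quotient.eq_zero_iff_mem, map_sub, map_pow, map_sum, sub_eq_zero]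
      have h := congrArg j (hμ i)
      rw [map_sum, map_pow, hjc] at h
      rw [← h]
      refine Finset.sum_congr rfl fun l _ => ?_
      rw [map_mul, map_mul, hμ₀, hjφ]
      rfl
    have herr' : err ∈ m ^ N • Submodule.span L (Set.range fun l => algebraMap Λ L (φ (a l))) := by
      rw [pow_add] at herr
      exact Ideal.mul_mono le_rfl hn herr
    obtain ⟨δ, hδ, hsum⟩ := (Submodule.mem_ideal_smul_span_iff_exists_sum _ _ _).1 herr'
    refine ⟨fun l => μ₀ i l + δ l, fun l => by rw [add_sub_cancel_left]; exact hδ l, ?_⟩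
    rw [Finsupp.sum_fintype δ (fun l c => c • algebraMap Λ L (φ (a l))) (fun l => zero_smul L _)] at hsum
    simp only [add_mul, Finset.sum_add_distrib]
    simp only [smul_eq_mul] at hsum
    rw [hsum]
    exact (add_sub_cancel _ _).symm
  choose μ₁ hμ₁ heq using hexact
  obtain ⟨b, hb⟩ := IsLocalization.exist_integer_multiples_of_finite 𝔮.primeCompl
    (fun p : Fin d × Fin r => μ₁ p.1 p.2)
  choose ν₁ hν₁ using fun i l => hb (i, l)
  have hν₁' : ∀ i l, algebraMap Λ L (ν₁ i l) = algebraMap Λ L b * μ₁ i l := fun i l => by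
    rw [hν₁ i l, Algebra.smul_def]
  have hloc : ∀ i, ∃ c : 𝔮.primeCompl, (c : Λ) * ((b : Λ) * aeval η (g i) ^ n) = (c : Λ) * ∑ l, ν₁ i l * φ (a l) := by
    intro i
    refine (IsLocalization.eq_iff_exists 𝔮.primeCompl L).1 ?_
    rw [map_mul, map_pow, heq i, map_sum, Finset.mul_sum]
    refine Finset.sum_congr rfl fun l _ => ?_
    rw [map_mul, hν₁', mul_assoc]
  choose c hc using hloc
  let c₀ : 𝔮.primeCompl := ∏ i, c i
  refine ⟨ι, inferInstance, η, g, hgP, hspanQ, hdimQ, hgL, D, inferInstance, iA, j, φD, μ, (c₀ : Λ) * b,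
    fun i l => (c₀ : Λ) * ν₁ i l, hsm, hjc, hjφ, hk, fun i => (hμ i).symm, ?_, fun i => ?_, fun i l => ?_⟩
  · exact fun h => ((inferInstance : 𝔮.IsPrime).mem_or_mem h).elim c₀.2 b.2
  · obtain ⟨e, he⟩ := Finset.dvd_prod_of_mem c (Finset.mem_univ i)
    rw [mul_assoc, show (c₀ : Λ) = (c i : Λ) * e by rw [show c₀ = c i * e from he]; rfl,
      mul_comm (c i : Λ), mul_assoc, hc i, Finset.mul_sum, Finset.mul_sum]
    exact Finset.sum_congr rfl fun l _ => by ring
  · beta_reduce
    rw [← hμ₀, ← map_mul, ← map_sub]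
    refine Ideal.mem_map_of_mem _ ?_
    rw [map_mul, map_mul, hν₁']
    have : μ₀ i l * (algebraMap Λ L c₀ * algebraMap Λ L b) - algebraMap Λ L c₀ * (algebraMap Λ L b * μ₁ i l) =
        -(algebraMap Λ L c₀ * algebraMap Λ L b) * (μ₁ i l - μ₀ i l) := by ring
    rw [this]
    exact Ideal.mul_mem_left _ _ (hμ₁ i l)

end Smoothing.Insep
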