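import Groth.Agent.Lib.Smoothing.Insep.Setup
import Groth.Agent.Lib.Smoothing.Insep.CoeffRing
import Groth.Agent.Lib.Smoothing.Insep.Coefficient

/-!
# Local resolution data at a point with arbitrary residue field
-/

set_option autoImplicit false
set_option backward.isDefEq.respectTransparency false
set_option maxHeartbeats 2000000

universe u

open scoped TensorProduct
open KaehlerDifferential IsLocalRing MvPolynomial

namespace Smoothing.Insep

/-- The prime under a point of the values of variables. -/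
noncomputable abbrev evalPrime {k Λ : Type u} {ι : Type} [Field k] [CommRing Λ] [Algebra k Λ] (η : ι → Λ) (𝔮 : Ideal Λ) :
    Ideal (MvPolynomial ι k) :=
  𝔮.comap (aeval η : MvPolynomial ι k →ₐ[k] Λ)

/-- The truncated local ring of the variables at a point. -/
abbrev Qtr {k Λ : Type u} {ι : Type} [Field k] [CommRing Λ] [Algebra k Λ] (η : ι → Λ) (𝔮 : Ideal Λ) [𝔮.IsPrime]
    (N : ℕ) : Type u :=
  Localization.AtPrime (evalPrime (k := k) η 𝔮) ⧸ maximalIdeal (Localization.AtPrime (evalPrime (k := k) η 𝔮)) ^ N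

/-- The map into the truncated local ring. -/
noncomputable abbrev toQtr {k Λ : Type u} {ι : Type} [Field k] [CommRing Λ] [Algebra k Λ] (η : ι → Λ)
    (𝔮 : Ideal Λ) [𝔮.IsPrime] (N : ℕ) : MvPolynomial ι k →+* Qtr (k := k) η 𝔮 N :=
  (Ideal.Quotient.mk _).comp (algebraMap (MvPolynomial ι k) (Localization.AtPrime (evalPrime (k := k) η 𝔮)))

theorem exists_localData {k Λ : Type u} [Field k] (p : ℕ) [Fact p.Prime] [CharP k p] [CommRing Λ] [Algebra k Λ]
    [IsNoetherianRing Λ] (𝔮 : Ideal Λ) [𝔮.IsPrime] [IsRegularLocalRing (Localization.AtPrime 𝔮)]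
    (hfs : CAlgX.IsAdicFormallySmooth k (Localization.AtPrime 𝔮) (maximalIdeal (Localization.AtPrime 𝔮)))
    (d : ℕ) (hd : ringKrullDim (Localization.AtPrime 𝔮) = d) (N : ℕ) (hN : 0 < N)
    (seeds : Finset (Localization.AtPrime 𝔮 ⧸ maximalIdeal (Localization.AtPrime 𝔮) ^ N)) :
    ∃ (ι : Type) (_ : Fintype ι) (η : ι → Λ) (g : Fin d → MvPolynomial ι k),
      (∀ i, g i ∈ evalPrime (k := k) η 𝔮) ∧
      Ideal.span (Set.range fun i => algebraMap _ (Localization.AtPrime (evalPrime (k := k) η 𝔮)) (g i)) =
        maximalIdeal (Localization.AtPrime (evalPrime (k := k) η 𝔮)) ∧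
      ringKrullDim (Localization.AtPrime (evalPrime (k := k) η 𝔮)) = d ∧
      Ideal.span (Set.range fun i => algebraMap Λ (Localization.AtPrime 𝔮) (aeval η (g i))) =
        maximalIdeal (Localization.AtPrime 𝔮) ∧
      ∃ (D : Type u) (iD : CommRing.{u} D) (iA : Algebra (Qtr (k := k) η 𝔮 N) D)
        (j : D →+* Localization.AtPrime 𝔮 ⧸ maximalIdeal (Localization.AtPrime 𝔮) ^ N),
        Algebra.Smooth (Qtr (k := k) η 𝔮 N) D ∧
        Function.Injective j ∧
        (∀ q : MvPolynomial ι k, j ((iA.algebraMap) (toQtr η 𝔮 N q)) =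
          Ideal.Quotient.mk _ (algebraMap Λ (Localization.AtPrime 𝔮) (aeval η q))) ∧
        (seeds : Set _) ⊆ Set.range j ∧
        ∀ (r : ℕ) (a : Fin r → D) (x : D),
          j x ∈ Ideal.span (Set.range fun l => j (a l)) → x ∈ Ideal.span (Set.range a) := by
  classical
  let L := Localization.AtPrime 𝔮
  let K := ResidueField L
  let m := maximalIdeal L
  let Lb := L ⧸ m ^ N
  -- the prime field
  let F := GrothLib.SepField.PrimeFld.{u} p
  haveI : CharP F p := charP_of_injective_ringHom
    (f := (ULift.ringEquiv.symm : ZMod p ≃+* F).toRingHom) ULift.ringEquiv.symm.injective p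
  haveI : PerfectRing F p := PerfectRing.ofFiniteOfIsReduced p _
  haveI : PerfectField F := PerfectField.ofFinite
  haveI : ExpChar F p := ExpChar.prime Fact.out
  letI : Algebra F k := ((ZMod.castHom (dvd_refl p) k).comp ULift.ringEquiv.toRingHom).toAlgebra
  letI : Algebra F L := ((algebraMap k L).comp (algebraMap F k)).toAlgebra
  haveI : IsScalarTower F k L := IsScalarTower.of_algebraMap_eq fun _ => rfl
  haveI : Algebra.FormallyUnramified ℤ F :=
    .of_surjective (Algebra.ofId ℤ _) (by
      intro z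
      refine ⟨(z.down.val : ℤ), (ULift.ringEquiv : F ≃+* ZMod p).injective ?_⟩
      change ULift.ringEquiv (algebraMap ℤ F _) = _
      rw [eq_intCast, map_intCast]
      simp; rfl)
  haveI hfsF : ∀ (K' : Type u) [Field K'] [Algebra F K'], Algebra.FormallySmooth F K' := fun K' _ _ =>
    haveI : CharP K' p := charP_of_injective_algebraMap (algebraMap F K').injective p
    GrothLib.SepField.formallySmooth_perfect p
  haveI : IsScalarTower F k K := IsScalarTower.of_algebraMap_eq fun _ => rfl
  haveI : IsScalarTower F k Lb := IsScalarTower.of_algebraMap_eq fun _ => rfl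
  haveI : CharP K p := charP_of_injective_algebraMap (algebraMap k K).injective p
  -- the differential basis and the section
  obtain ⟨B, hB, hind⟩ := exists_basis_indep (F := F) hfs
  obtain ⟨B₀, hB₀, hindK⟩ := exists_cofinite_indep (F := F) B hind
  let π : Lb →ₐ[k] K := Ideal.Quotient.liftₐ (m ^ N) (IsScalarTower.toAlgHom k L K) fun a ha =>
    (residue_eq_zero_iff a).2 (Ideal.pow_le_self hN.ne' ha)
  have hπmk : ∀ z, π (Ideal.Quotient.mk _ z) = residue L z := fun z => rfl
  have hπs : Function.Surjective π := fun c => by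
    obtain ⟨z, rfl⟩ := residue_surjective c
    exact ⟨Ideal.Quotient.mk _ z, rfl⟩
  have hker : RingHom.ker π.toRingHom = m.map (Ideal.Quotient.mk (m ^ N)) := by
    refine le_antisymm (fun z hz => ?_) (Ideal.map_le_iff_le_comap.2 fun z hz => ?_)
    · obtain ⟨z, rfl⟩ := Ideal.Quotient.mk_surjective z
      exact Ideal.mem_map_of_mem _ ((residue_eq_zero_iff z).1 hz)
    · exact (residue_eq_zero_iff z).2 hz
  have hkerN : RingHom.ker π.toRingHom ^ N = ⊥ := by
    rw [hker, ← Ideal.map_pow, Ideal.map_quotient_self]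
  have hnil : IsNilpotent (RingHom.ker π.toRingHom) := ⟨N, hkerN⟩
  haveI : Nontrivial Lb := π.toRingHom.domain_nontrivial
  haveI : CharP Lb p := charP_of_injective_algebraMap (algebraMap k Lb).injective p
  haveI : ExpChar Lb p := ExpChar.prime Fact.out
  have hfrac : ∀ c : K, ∃ a b : Λ, algebraMap Λ K b ≠ 0 ∧ c * algebraMap Λ K b = algebraMap Λ K a := by
    intro c
    obtain ⟨z, rfl⟩ := residue_surjective c
    obtain ⟨⟨a, b⟩, hab⟩ := IsLocalization.surj 𝔮.primeCompl z
    refine ⟨a, b, fun h => ?_, ?_⟩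
    · exact IsLocalRing.notMem_maximalIdeal.2 (IsLocalization.map_units L b) ((residue_eq_zero_iff _).1 h)
    · show residue L z * residue L (algebraMap Λ L b) = residue L (algebraMap Λ L a)
      rw [← map_mul, hab]
  obtain ⟨σ, S, hσ, hσB, hσS, hσspan⟩ := exists_section_global (F := F) (T := Lb) p hfrac π hπs
    (fun l => rfl) hnil (B \ B₀) hindK
  have hpN : ∀ z w : Lb, π z = π w → z ^ p ^ N = w ^ p ^ N := by
    intro z w hzw
    have h1 : z - w ∈ RingHom.ker π.toRingHom := by
      show π (z - w) = 0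
      rw [map_sub, hzw, sub_self]
    have h2 : (z - w) ^ p ^ N ∈ RingHom.ker π.toRingHom ^ p ^ N := Ideal.pow_mem_pow h1 _
    have h3 := (Ideal.pow_le_pow_right (Nat.lt_pow_self (Fact.out : p.Prime).one_lt).le).trans_eq hkerN h2
    rw [Ideal.mem_bot, sub_pow_char_pow, sub_eq_zero] at h3
    exact h3
  -- parameters and truncation
  obtain ⟨x₀, hx₀q, hx₀⟩ := exists_parameters_global 𝔮 d hd
  obtain ⟨Φ, hΦ, hΦσ, hΦX⟩ := exists_truncation (F := F) hd (fun i => algebraMap Λ L (x₀ i)) hx₀ hN
    (π.restrictScalars F) hker σ hσ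
  -- the finitely generated coefficient field
  let Good : Set K := {y | ∃ l : Λ, algebraMap Λ K l = y ∧ algebraMap Λ Lb l = σ y}
  have hGoodpow : ∀ a : Λ, algebraMap Λ K a ^ p ^ N ∈ Good := fun a => ⟨a ^ p ^ N, map_pow _ _ _, by
    rw [map_pow, map_pow]
    refine hpN _ _ ?_
    rw [hσ]
    rfl⟩
  have hGood : IntermediateField.adjoin k Good = ⊤ := by
    have hA : (IntermediateField.adjoin k Good).toSubfield = ⊤ := by
      refine subfield_eq_top (F := F) p _ hσspan _ ?_ N fun c => ?_
      · rintro _ (⟨b, -, rfl⟩ | ⟨l, hl, rfl⟩)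
        · exact (IntermediateField.adjoin k Good).algebraMap_mem b
        · exact IntermediateField.subset_adjoin k Good ⟨l, rfl, (hσS l hl).symm⟩
      · obtain ⟨a, b, hb, hc⟩ := hfrac c
        have hc' : c = algebraMap Λ K a / algebraMap Λ K b := (eq_div_iff hb).2 hc
        rw [hc', div_pow]
        exact div_mem (IntermediateField.subset_adjoin k Good (hGoodpow a))
          (IntermediateField.subset_adjoin k Good (hGoodpow b))
    exact IntermediateField.toSubfield_injective (hA.trans rfl)
  let W : Finset Lb := seeds ∪ hB₀.toFinset.image (algebraMap k Lb)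
  choose G hG using fun w : W => exists_finset_mem_range (hΦ.2 (w : Lb)).choose
  have hfin : ∀ c : K, ∃ T : Finset K, (T : Set K) ⊆ Good ∧ c ∈ IntermediateField.adjoin k (T : Set K) :=
    fun c => IntermediateField.exists_finset_of_mem_adjoin (hGood ▸ IntermediateField.mem_top)
  choose Tc hTc hcTc using hfin
  let T : Finset K := (Finset.univ.biUnion G).biUnion Tc
  have hTGood : ∀ t ∈ T, t ∈ Good := fun t ht => by
    obtain ⟨c, -, hc⟩ := Finset.mem_biUnion.1 ht
    exact hTc c hc
  let E : IntermediateField k K := IntermediateField.adjoin k (T : Set K)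
  haveI : Algebra.EssFiniteType k E :=
    IntermediateField.fg_top_iff.1 (IntermediateField.fg_top_iff.2 (by
      haveI : Algebra.FiniteType k (Algebra.adjoin k (T : Set K)) := .adjoin_of_finite T.finite_toSet
      open IntermediateField.algebraAdjoinAdjoin in
      haveI : Algebra.EssFiniteType (Algebra.adjoin k (T : Set K)) E :=
        .of_isLocalization _ (nonZeroDivisors _)
      exact .comp _ (Algebra.adjoin k (T : Set K)) _))
  haveI : IsScalarTower F E K := IsScalarTower.of_algebraMap_eq fun _ => rfl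
  haveI : IsScalarTower F k E := IsScalarTower.of_algebraMap_eq fun c => Subtype.ext (IsScalarTower.algebraMap_apply F k K c)
  -- the truncated algebra
  obtain ⟨D, _, j, R', hR', hR'j, hjσ, hjX', hπE', hjrange⟩ :=
    exists_coefficientRing (K := K) E Φ hΦ (π.restrictScalars F) (fun c => by rw [hΦσ]; exact hσ c) fun i => by
      rw [hΦX]
      exact (residue_eq_zero_iff _).2 ((IsLocalization.AtPrime.to_map_mem_maximal_iff L 𝔮 _).2 (hx₀q i))
  have hjinj : Function.Injective j := Function.LeftInverse.injective hR'j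
  have hjσ' : ∀ e : E, σ (e : K) ∈ Set.range j := fun e => hΦσ (e : K) ▸ hjσ e
  have hjX : ∀ i, algebraMap Λ Lb (x₀ i) ∈ Set.range j := fun i => by
    have h := hjX' i
    rw [hΦX i] at h
    exact h
  have hπE : ∀ z : D, π (j z) ∈ E := fun z => by
    obtain ⟨e, he⟩ := hπE' z
    exact (show π (j z) = (e : K) from he.symm) ▸ e.2
  let ε : D →+* E := ((π.toRingHom).comp j).codRestrict E.toSubfield hπE
  have hεval : ∀ z, ((ε z : E) : K) = π (j z) := fun z => rfl
  have hεs : Function.Surjective ε := fun e => by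
    obtain ⟨z, hz⟩ := hjσ' e
    exact ⟨z, Subtype.ext (by rw [hεval, hz, hσ])⟩
  have hunit : ∀ z : D, π (j z) ≠ 0 → IsUnit z := by
    intro z hz
    obtain ⟨w, hw⟩ := hjσ' ⟨(π (j z))⁻¹, E.inv_mem (hπE z)⟩
    have h2 : IsNilpotent (1 - w * z) := by
      refine ⟨N, hjinj ?_⟩
      rw [map_pow, map_zero]
      have h3 : j (1 - w * z) ∈ RingHom.ker π.toRingHom := by
        show π (j (1 - w * z)) = 0
        rw [map_sub, map_mul, map_one, map_sub, map_mul, map_one, hw, hσ]
        simp [inv_mul_cancel₀ hz]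
      have h4 := Ideal.pow_mem_pow h3 N
      rwa [hkerN, Ideal.mem_bot] at h4
    have h5 := h2.isUnit_one_sub
    rw [sub_sub_cancel] at h5
    exact isUnit_of_mul_isUnit_right h5
  have hcoef : ∀ w : W, (w : Lb) ∈ Set.range j := by
    intro w
    rw [← (hΦ.2 (w : Lb)).choose_spec]
    refine hjrange _ (hG w E fun c hc => ?_)
    have hcE : c ∈ E := by
      refine IntermediateField.adjoin.mono k _ _ ?_ (hcTc c)
      intro t ht
      exact Finset.mem_biUnion.2 ⟨c, Finset.mem_biUnion.2 ⟨w, Finset.mem_univ _, hc⟩, ht⟩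
    exact ⟨⟨c, hcE⟩, rfl⟩
  have hkj : ∀ c : k, algebraMap k Lb c ∈ Set.range j := by
    let S₀ : Subfield k :=
      { carrier := {c | algebraMap k Lb c ∈ Set.range j}
        zero_mem' := ⟨0, by rw [map_zero, map_zero]⟩
        one_mem' := ⟨1, by rw [map_one, map_one]⟩
        add_mem' := fun {a b} ⟨x, hx⟩ ⟨y, hy⟩ => ⟨x + y, by rw [map_add, hx, hy, map_add]⟩
        neg_mem' := fun {a} ⟨x, hx⟩ => ⟨-x, by rw [map_neg, hx, map_neg]⟩
        mul_mem' := fun {a b} ⟨x, hx⟩ ⟨y, hy⟩ => ⟨x * y, by rw [map_mul, hx, hy, map_mul]⟩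
        inv_mem' := fun a ⟨x, hx⟩ => by
          rcases eq_or_ne a 0 with rfl | ha
          · rw [inv_zero]; exact ⟨0, by rw [map_zero, map_zero]⟩
          · obtain ⟨u, hu⟩ := hunit x (by rw [hx, π.commutes]; simpa using ha)
            refine ⟨(u⁻¹ : Dˣ), ?_⟩
            have h1 : j x * j ((u⁻¹ : Dˣ) : D) = 1 := by rw [← map_mul, ← hu, Units.mul_inv, map_one]
            have h2 : algebraMap k Lb a⁻¹ * j x = 1 := by
              rw [hx, ← map_mul, inv_mul_cancel₀ ha, map_one]
            exact (left_inv_eq_right_inv h2 h1).symm }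
    have hS₀ : S₀ = ⊤ := by
      refine subfield_eq_top (F := F) p B hB S₀ (fun b hb => ?_) N fun c => ?_
      · by_cases hb0 : b ∈ B₀
        · exact hcoef ⟨_, Finset.mem_union_right _ (Finset.mem_image_of_mem _ (hB₀.mem_toFinset.2 hb0))⟩
        · show algebraMap k Lb b ∈ Set.range j
          rw [← hσB b ⟨hb, hb0⟩]
          exact hjσ' (algebraMap k E b)
      · obtain ⟨z, hz⟩ := hjσ' (algebraMap k E (c ^ p ^ N))
        refine ⟨z, hz.trans ?_⟩
        show σ (algebraMap k K (c ^ p ^ N)) = algebraMap k Lb (c ^ p ^ N)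
        rw [map_pow, map_pow, map_pow]
        refine hpN _ _ ?_
        rw [hσ, π.commutes]
    intro c
    exact (hS₀ ▸ Subfield.mem_top c : c ∈ S₀)
  -- the structure over `k`
  let eR : D ≃+* j.range :=
    RingEquiv.ofBijective j.rangeRestrict
      ⟨fun a b h => hjinj (congrArg Subtype.val h), j.rangeRestrict_surjective⟩
  let kD : k →+* D := eR.symm.toRingHom.comp ((algebraMap k Lb).codRestrict j.range hkj)
  have hjk : ∀ c, j (kD c) = algebraMap k Lb c := fun c =>
    congrArg Subtype.val (eR.apply_symm_apply ⟨algebraMap k Lb c, hkj c⟩)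
  letI : Algebra k D := kD.toAlgebra
  let jk : D →ₐ[k] Lb := { j with commutes' := hjk }
  -- the differential basis of the coefficient field
  let v : ↥(T : Set K) → Ω[E⁄k] := fun t => KaehlerDifferential.D k E ⟨t, IntermediateField.subset_adjoin k _ t.2⟩
  obtain ⟨t₀, a₀, ha₀, hsp₀, hli₀⟩ := exists_linearIndependent' E v
  haveI : Finite t₀ := Finite.of_injective a₀ ha₀
  letI : Fintype t₀ := Fintype.ofFinite t₀
  let n := Fintype.card t₀
  let en : Fin n ≃ t₀ := (Fintype.equivFin t₀).symm
  choose lift hlift hlift' using fun i : Fin n => hTGood _ (a₀ (en i)).2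
  let y : Fin n → E := fun i => ⟨a₀ (en i), IntermediateField.subset_adjoin k _ (a₀ (en i)).2⟩
  have hy : LinearIndependent E fun i => KaehlerDifferential.D k E (y i) := hli₀.comp en en.injective
  have hyspan : Submodule.span E (Set.range fun i => KaehlerDifferential.D k E (y i)) = ⊤ := by
    have h1 := span_D_adjoin (F := k) (T : Set K)
    rw [← h1, ← hsp₀, ← en.surjective.range_comp (v ∘ a₀)]
    rfl
  let ηL : Fin n → L := fun i => algebraMap Λ L (lift i)
  let p₀ : Ideal (MvPolynomial (Fin n) k) := m.comap (aeval ηL : MvPolynomial (Fin n) k →ₐ[k] L)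
  haveI : p₀.IsPrime := Ideal.IsPrime.comap _
  obtain ⟨h, f, hfp, hfspan, hfind⟩ :=
    exists_parameters_residue (F := F) B hB hind E y hy ηL (fun i => hlift i) p₀ rfl
  -- extending to parameters of `L`
  let cot : Fin h ⊕ Fin d → CotangentSpace L := Sum.elim
    (fun l => m.toCotangent ⟨aeval ηL (f l), hfp l⟩)
    (fun i => m.toCotangent ⟨algebraMap Λ L (x₀ i), (IsLocalization.AtPrime.to_map_mem_maximal_iff L 𝔮 _).2 (hx₀q i)⟩)
  have hinl : LinearIndepOn K cot (Set.range Sum.inl) := by
    rw [linearIndepOn_range_iff Sum.inl_injective, Fintype.linearIndependent_iff]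
    intro r hr l
    choose r' hr' using fun l => residue_surjective (r l)
    rw [← hr' l, residue_eq_zero_iff]
    refine hfind r' ?_ l
    have h1 : ∑ l, r l • cot (Sum.inl l) =
        m.toCotangent (∑ l, r' l • (⟨aeval ηL (f l), hfp l⟩ : m)) := by
      rw [map_sum]
      refine Finset.sum_congr rfl fun l _ => ?_
      rw [map_smul, ← hr' l, ← ResidueField.algebraMap_eq, algebraMap_smul]
      rfl
    simp only [Function.comp_apply] at hr
    rw [h1, Ideal.toCotangent_eq_zero, Submodule.coe_sum] at hr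
    simpa only [SetLike.val_smul, smul_eq_mul] using hr
  obtain ⟨b, -, hbl, hbspan, hbli⟩ := exists_linearIndepOn_extension hinl (Set.subset_univ _)
  have hx₀cot : Submodule.span K (Set.range fun i => cot (Sum.inr i)) = ⊤ := by
    rw [show (Set.range fun i => cot (Sum.inr i)) = m.toCotangent '' Set.range (fun i =>
        (⟨algebraMap Λ L (x₀ i), (IsLocalization.AtPrime.to_map_mem_maximal_iff L 𝔮 _).2 (hx₀q i)⟩ : m)) by
      rw [← Set.range_comp]; rfl]
    rw [CotangentSpace.span_image_eq_top_iff, ← (Submodule.map_injective_of_injective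
      m.injective_subtype).eq_iff, Submodule.map_span, ← Set.range_comp, Submodule.map_top,
      Submodule.range_subtype]
    exact hx₀
  have hbtop : Submodule.span K (cot '' b) = ⊤ := by
    rw [eq_top_iff, ← hx₀cot, Submodule.span_le]
    rintro _ ⟨i, rfl⟩
    exact hbspan ⟨Sum.inr i, Set.mem_univ _, rfl⟩
  haveI : Finite b := Subtype.finite
  letI : Fintype b := Fintype.ofFinite b
  have hcard : Fintype.card b = d := by
    have e := Module.Basis.mk hbli (by
      rw [← hbtop]
      exact Submodule.span_mono (by rintro _ ⟨i, hi, rfl⟩; exact ⟨⟨i, hi⟩, rfl⟩))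
    rw [← Module.finrank_eq_card_basis e, ← spanFinrank_maximalIdeal_eq_finrank_cotangentSpace]
    have h := IsRegularLocalRing.spanFinrank_maximalIdeal (R := L)
    rw [hd] at h
    exact_mod_cast h
  let eb : Fin d ≃ b := (finCongr hcard.symm).trans (Fintype.equivFin b).symm
  let c : Set (Fin d) := {i | Sum.inr i ∈ b}
  let ι := Fin n ⊕ c
  let η : ι → Λ := Sum.elim lift (fun i => x₀ i)
  let Q := MvPolynomial ι k
  let g' : b → Q := fun i => match i with
    | ⟨Sum.inl l, _⟩ => rename Sum.inl (f l)
    | ⟨Sum.inr i, hi⟩ => X (Sum.inr ⟨i, hi⟩)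
  let g : Fin d → Q := g' ∘ eb
  let P : Ideal Q := evalPrime (k := k) η 𝔮
  haveI : P.IsPrime := Ideal.IsPrime.comap _
  have hP : ∀ z, z ∈ P ↔ algebraMap Λ L (aeval η z) ∈ m := fun z =>
    (IsLocalization.AtPrime.to_map_mem_maximal_iff L 𝔮 _).symm
  have hren : ∀ z, algebraMap Λ L (aeval η (rename Sum.inl z : Q)) = aeval ηL z := fun z => by
    rw [aeval_rename]
    exact MvPolynomial.comp_aeval_apply lift (IsScalarTower.toAlgHom k Λ L) z
  have hg'L : ∀ i : b, m.toCotangent ⟨_, (show algebraMap Λ L (aeval η (g' i)) ∈ m by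
      rcases i with ⟨l | i, hi⟩
      · rw [hren]; exact hfp l
      · simp only [g', aeval_X]
        exact (IsLocalization.AtPrime.to_map_mem_maximal_iff L 𝔮 _).2 (hx₀q i))⟩ = cot i := by
    rintro ⟨l | i, hi⟩
    · exact congrArg m.toCotangent (Subtype.ext (hren (f l)))
    · exact congrArg m.toCotangent (Subtype.ext (by simp [g', η, cot]))
  have hg'P : ∀ i, g' i ∈ P := by
    rintro ⟨l | i, hi⟩
    · rw [hP, hren]; exact hfp l
    · rw [hP]
      simp only [g', aeval_X]
      exact (IsLocalization.AtPrime.to_map_mem_maximal_iff L 𝔮 _).2 (hx₀q i)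
  have hgP : ∀ i, g i ∈ P := fun i => hg'P _
  have hgL : Ideal.span (Set.range fun i => algebraMap Λ L (aeval η (g i))) = m := by
    rw [show (Set.range fun i => algebraMap Λ L (aeval η (g i))) =
        Set.range (fun i : b => algebraMap Λ L (aeval η (g' i))) from
      eb.surjective.range_comp fun i : b => algebraMap Λ L (aeval η (g' i))]
    have h1 : Submodule.span K (m.toCotangent '' Set.range (fun i : b =>
        (⟨algebraMap Λ L (aeval η (g' i)), (hP _).1 (hg'P i)⟩ : m))) = ⊤ := by
      rw [← Set.range_comp, ← hbtop, Set.image_eq_range]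
      exact congrArg (Submodule.span K) (congrArg Set.range (funext hg'L))
    rw [CotangentSpace.span_image_eq_top_iff] at h1
    have h2 := congrArg (Submodule.map m.subtype) h1
    rw [Submodule.map_span, ← Set.range_comp, Submodule.map_top, Submodule.range_subtype] at h2
    exact h2
  let Qp := Localization.AtPrime P
  have hspanQ : Ideal.span (Set.range fun i => algebraMap Q Qp (g i)) = maximalIdeal Qp := by
    rw [show (Set.range fun i => algebraMap Q Qp (g i)) = algebraMap Q Qp '' Set.range g by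
      rw [← Set.range_comp]; rfl, ← Ideal.map_span, ← Localization.AtPrime.map_eq_maximalIdeal]
    refine le_antisymm (Ideal.map_mono (Ideal.span_le.2 (by rintro _ ⟨i, rfl⟩; exact hgP i))) ?_
    rw [Ideal.map_le_iff_le_comap]
    intro z hz
    rw [Ideal.mem_comap, IsLocalization.algebraMap_mem_map_algebraMap_iff P.primeCompl]
    let z₀ : MvPolynomial (Fin n) k := aeval (Sum.elim X (fun _ => 0)) z
    have hdiff : ∀ z : Q, z - rename Sum.inl (aeval (Sum.elim X (fun _ => 0)) z : MvPolynomial (Fin n) k) ∈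
        Ideal.span (Set.range g) := by
      intro z
      induction z using MvPolynomial.induction_on with
      | C a =>
        rw [MvPolynomial.aeval_C, MvPolynomial.algebraMap_eq, rename_C, sub_self]
        exact Ideal.zero_mem _
      | add a b ha hb => convert add_mem ha hb using 1; simp only [map_add]; ring
      | mul_X a i ha =>
        rcases i with i | i
        · convert Ideal.mul_mem_right (X (Sum.inl i)) _ ha using 1
          simp only [map_mul, aeval_X, Sum.elim_inl, rename_X]; ring
        · simp only [map_mul, aeval_X, Sum.elim_inr, mul_zero, map_zero, sub_zero]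
          refine Ideal.mul_mem_left _ _ (Ideal.subset_span ⟨eb.symm ⟨Sum.inr i.1, i.2⟩, ?_⟩)
          show g' (eb (eb.symm _)) = _
          rw [Equiv.apply_symm_apply]
    have hgle : Ideal.span (Set.range g) ≤ P := Ideal.span_le.2 (by rintro _ ⟨i, rfl⟩; exact hgP i)
    have hz₀ : z₀ ∈ p₀ := by
      have h1 := sub_mem hz (hgle (hdiff z))
      rw [sub_sub_cancel, hP, hren] at h1
      exact h1
    have h2 : algebraMap _ (Localization.AtPrime p₀) z₀ ∈
        (Ideal.span (Set.range f)).map (algebraMap _ (Localization.AtPrime p₀)) := by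
      rw [Ideal.map_span, ← Set.range_comp]
      refine hfspan.ge ?_
      rw [← Localization.AtPrime.map_eq_maximalIdeal]
      exact Ideal.mem_map_of_mem _ hz₀
    obtain ⟨s, hs, hsz⟩ := (IsLocalization.algebraMap_mem_map_algebraMap_iff p₀.primeCompl _ _ _).1 h2
    refine ⟨rename Sum.inl s, fun h0 => hs ?_, ?_⟩
    · rw [SetLike.mem_coe, hP, hren] at h0
      exact h0
    · have h3 : rename Sum.inl (s * z₀) ∈ Ideal.span (Set.range g) := by
        have h4 := Ideal.mem_map_of_mem (rename Sum.inl : MvPolynomial (Fin n) k →ₐ[k] Q) hsz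
        refine (?_ : Ideal.map (rename Sum.inl : MvPolynomial (Fin n) k →ₐ[k] Q) _ ≤ _) h4
        rw [Ideal.map_span, Ideal.span_le]
        rintro _ ⟨_, ⟨l, rfl⟩, rfl⟩
        refine Ideal.subset_span ⟨eb.symm ⟨Sum.inl l, hbl ⟨l, rfl⟩⟩, ?_⟩
        show g' (eb (eb.symm _)) = _
        rw [Equiv.apply_symm_apply]
      rw [map_mul] at h3
      convert add_mem h3 (Ideal.mul_mem_left _ (rename Sum.inl s) (hdiff z)) using 1
      ring
  -- the map from the local ring of the polynomial ring
  have hφu : ∀ s : P.primeCompl, IsUnit (((IsScalarTower.toAlgHom k Λ L).comp (aeval η)) (s : Q)) := fun s =>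
    IsLocalRing.notMem_maximalIdeal.1 fun hm => s.2 ((hP _).2 hm)
  let φp : Qp →ₐ[k] L := IsLocalization.liftAlgHom (M := P.primeCompl) hφu
  have hφp : ∀ q, φp (algebraMap Q Qp q) = algebraMap Λ L (aeval η q) := fun q => IsLocalization.lift_eq _ q
  letI : Algebra Qp L := φp.toRingHom.toAlgebra
  have hmaxmap : (maximalIdeal Qp).map (algebraMap Qp L) = m := by
    rw [← hspanQ, Ideal.map_span, ← Set.range_comp, ← hgL]
    exact congrArg Ideal.span (congrArg Set.range (funext fun i => hφp (g i)))
  haveI : IsRegularLocalRing Qp := IsRegularRing.isRegularLocalRing_localization P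
  have hdimQ : ringKrullDim Qp = d := by
    rw [← IsRegularLocalRing.spanFinrank_maximalIdeal]
    refine congrArg Nat.cast (le_antisymm ?_ ?_)
    · rw [← hspanQ]
      refine (Submodule.spanFinrank_span_le_ncard_of_finite (Set.finite_range _)).trans ?_
      refine (Finite.card_range_le _).trans ?_
      rw [Nat.card_eq_fintype_card, Fintype.card_fin]
    · obtain ⟨z, hz⟩ := GrothLib.RegLoc.exists_generators_fin (maximalIdeal Qp)
      have h := IsRegularLocalRing.spanFinrank_maximalIdeal (R := L)
      rw [hd] at h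
      rw [show d = (maximalIdeal L).spanFinrank by exact_mod_cast h.symm,
        show maximalIdeal L = _ from hmaxmap.symm, ← hz, Ideal.map_span,
        ← Set.range_comp]
      refine (Submodule.spanFinrank_span_le_ncard_of_finite (Set.finite_range _)).trans ?_
      refine (Finite.card_range_le _).trans ?_
      rw [Nat.card_eq_fintype_card, Fintype.card_fin]
      exact le_of_eq (by rw [hz])
  haveI : Module.Flat Qp L := by
    refine GrothLib.FibreFlat.flat_of_weaklyRegular (List.ofFn fun i => algebraMap Q Qp (g i))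
      (GrothLib.RegLoc.isRegular_ofFn d hdimQ _ hspanQ).toIsWeaklyRegular ?_ ?_ ?_
    · have h2 := (GrothLib.RegLoc.isRegular_ofFn (R := L) d hd _ hgL).toIsWeaklyRegular
      rw [← RingTheory.Sequence.isWeaklyRegular_map_algebraMap_iff L L, List.map_ofFn]
      rwa [show (algebraMap Qp L ∘ fun i => algebraMap Q Qp (g i)) =
        fun i => algebraMap Λ L (aeval η (g i)) from funext fun i => hφp (g i)]
    · intro t ht
      obtain ⟨i, rfl⟩ := List.mem_ofFn.mp ht
      show φp (algebraMap Q Qp (g i)) ∈ _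
      rw [hφp]
      exact (hP _).1 (hgP i)
    · rw [show Ideal.ofList (List.ofFn fun i => algebraMap Q Qp (g i)) = maximalIdeal Qp by
        rw [← hspanQ]
        exact congrArg Ideal.span (Set.ext fun z => by simp [List.mem_ofFn])]
      exact (Ideal.Quotient.maximal_ideal_iff_isField_quotient _).mp inferInstance
  let J : Ideal Qp := maximalIdeal Qp ^ N
  have hJm : J.map (algebraMap Qp L) = m ^ N := by rw [Ideal.map_pow, hmaxmap]
  -- the structure of `D` over it
  have hηj : ∀ i, algebraMap Λ Lb (η i) ∈ Set.range j := by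
    rintro (i | i)
    · show algebraMap Λ Lb (lift i) ∈ Set.range j
      rw [hlift' i]
      exact hjσ' (y i)
    · exact hjX i.1
  choose ηD hηD using hηj
  let ψQ : Q →ₐ[k] D := aeval ηD
  have hψQ : ∀ q, j (ψQ q) = Ideal.Quotient.mk (m ^ N) (algebraMap Λ L (aeval η q)) := fun q => by
    have : jk.comp ψQ = (IsScalarTower.toAlgHom k Λ Lb).comp (aeval η) :=
      MvPolynomial.algHom_ext fun i => by
        rw [AlgHom.comp_apply, AlgHom.comp_apply, aeval_X, aeval_X]
        exact hηD i
    exact AlgHom.congr_fun this q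
  let ψp : Qp →ₐ[k] D := IsLocalization.liftAlgHom (M := P.primeCompl) (f := ψQ) fun s => hunit _ (by
    rw [hψQ, hπmk]
    exact fun h => s.2 ((hP _).2 ((residue_eq_zero_iff _).1 h)))
  have hψp : ∀ z, j (ψp z) = Ideal.Quotient.mk (m ^ N) (φp z) := fun z => by
    have : jk.comp ψp = (Ideal.Quotient.mkₐ k (m ^ N)).comp φp :=
      AlgHom.coe_ringHom_injective (IsLocalization.ringHom_ext P.primeCompl (RingHom.ext fun q => by
        show j (ψp (algebraMap Q Qp q)) = Ideal.Quotient.mk (m ^ N) (φp (algebraMap Q Qp q))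
        rw [show ψp (algebraMap Q Qp q) = ψQ q from IsLocalization.lift_eq _ q, hψQ, hφp]))
    exact AlgHom.congr_fun this z
  let ψb : Qp ⧸ J →+* D := Ideal.Quotient.lift J ψp.toRingHom fun a ha => hjinj (by
    rw [map_zero]
    refine (hψp a).trans (Ideal.Quotient.eq_zero_iff_mem.2 ?_)
    exact hJm ▸ Ideal.mem_map_of_mem (algebraMap Qp L) ha)
  have hdesc : ∀ (r : ℕ) (a : Fin r → D) (x : D),
      j x ∈ Ideal.span (Set.range fun l => j (a l)) → x ∈ Ideal.span (Set.range a) := by
    intro r a x hx
    obtain ⟨cf, hcf⟩ := Ideal.mem_span_range_iff_exists_fun.1 hx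
    refine Ideal.mem_span_range_iff_exists_fun.2 ⟨fun l => R' (cf l), ?_⟩
    rw [← hR'j x, ← hcf, map_sum]
    exact Finset.sum_congr rfl fun l _ => by rw [mul_comm (cf l), hR', mul_comm]
  -- smoothness
  have hIg : ((maximalIdeal Qp).map (Ideal.Quotient.mk J)).map ψb = Ideal.span (Set.range fun i => ψQ (g i)) := by
    rw [← hspanQ, Ideal.map_map, Ideal.map_span, ← Set.range_comp]
    exact congrArg Ideal.span (congrArg Set.range (funext fun i => IsLocalization.lift_eq _ (g i)))
  have hkerε : RingHom.ker ε = ((maximalIdeal Qp).map (Ideal.Quotient.mk J)).map ψb := by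
    rw [hIg]
    refine le_antisymm (fun z hz => ?_) ?_
    · refine hdesc d (fun i => ψQ (g i)) z ?_
      have h1 : j z ∈ RingHom.ker π.toRingHom := by
        show π (j z) = 0
        rw [← hεval, show ε z = 0 from hz]
        rfl
      have h2 := (hker.trans (congrArg (Ideal.map (Ideal.Quotient.mk (m ^ N))) hgL.symm)).le h1
      rw [Ideal.map_span, ← Set.range_comp] at h2
      convert h2 using 3
      exact funext fun i => hψQ (g i)
    · rw [Ideal.span_le]
      rintro _ ⟨i, rfl⟩
      refine Subtype.ext ?_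
      show π (j (ψQ (g i))) = 0
      rw [hψQ, hπmk]
      exact (residue_eq_zero_iff _).2 ((hP _).1 (hgP i))
  letI : Algebra (Qp ⧸ J) D := ψb.toAlgebra
  have hsm : Algebra.Smooth (Qp ⧸ J) D := by
    refine smooth_of_retraction (k := k) J (maximalIdeal Qp) (Ideal.pow_le_self hN.ne') ⟨N, le_rfl⟩ _ hJm j R'
      hR' hR'j ψb (fun r => hψp r) ε hεs ?_ hkerε (fun i : ι => algebraMap Q Qp (X i)) ?_
    · intro c
      refine Subtype.ext ?_
      show π (j (ψp (algebraMap k Qp c))) = algebraMap k K c
      rw [ψp.commutes, show j (algebraMap k D c) = algebraMap k Lb c from hjk c, π.commutes]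
    · rw [eq_top_iff, ← hyspan, Submodule.span_le]
      rintro _ ⟨i, rfl⟩
      refine Submodule.subset_span ⟨Sum.inl i, ?_⟩
      refine congrArg (KaehlerDifferential.D k E) (Subtype.ext ?_)
      show π (j (ψp (algebraMap Q Qp (X (Sum.inl i))))) = _
      rw [hψp, hφp, aeval_X]
      exact hlift i
  refine ⟨ι, inferInstance, η, g, hgP, hspanQ, hdimQ, hgL, D, inferInstance, ψb.toAlgebra, j, hsm,
    hjinj, fun q => ?_, fun w hw => hcoef ⟨w, Finset.mem_union_left _ hw⟩, hdesc⟩
  show j (ψp (algebraMap Q Qp q)) = _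
  rw [hψp, hφp]

end Smoothing.Insep
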