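import Groth.Agent.Lib.Smoothing.DelocalizePrime
import Groth.Agent.Lib.Smoothing.SingularIdeal
import Groth.Agent.Lib.Smoothing.Standard
import Groth.Agent.Lib.Smoothing.BaseChange
import Groth.Agent.Lib.Smoothing.Separable.Field

/-!
# Resolving at a minimal prime from a smooth factorization
-/

set_option autoImplicit false
set_option backward.isDefEq.respectTransparency false

open scoped TensorProduct

namespace Smoothing.Insep

universe u

theorem singularIdeal_eq_top_of_smooth (R B : Type u) [CommRing R] [CommRing B] [Algebra R B]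
    [Algebra.Smooth R B] : singularIdeal R B = ⊤ := by
  rw [Ideal.eq_top_iff_one, singularIdeal, PrimeSpectrum.mem_vanishingIdeal]
  intro p hp
  exfalso
  refine hp ?_
  show Algebra.IsSmoothAt R p.asIdeal
  haveI : Algebra.FormallySmooth B (Localization.AtPrime p.asIdeal) :=
    Algebra.FormallySmooth.of_isLocalization p.asIdeal.primeCompl
  exact Algebra.FormallySmooth.comp R B _

/-- A problem at a minimal prime is resolved by a smooth algebra over the localized base. -/
theorem resolvable_of_smooth_factor {R A Λ Rₚ Λq B : Type u} [CommRing R] [IsNoetherianRing R] [CommRing A]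
    [Algebra R A] [Algebra.FinitePresentation R A] [CommRing Λ] [Algebra R Λ] (φ : A →ₐ[R] Λ)
    (q : Ideal Λ) [q.IsPrime] (hq : q ∈ minimalPrimes Λ)
    [CommRing Rₚ] [Algebra R Rₚ] [IsLocalization.AtPrime Rₚ (q.comap (algebraMap R Λ))]
    [CommRing Λq] [Algebra Λ Λq] [IsLocalization.AtPrime Λq q] [Algebra R Λq] [IsScalarTower R Λ Λq]
    [Algebra Rₚ Λq] [IsScalarTower R Rₚ Λq] [CommRing B] [Algebra Rₚ B] [Algebra.Smooth Rₚ B]
    (g : A →+* B) (h : B →ₐ[Rₚ] Λq)
    (hg : ∀ r, g (algebraMap R A r) = algebraMap Rₚ B (algebraMap R Rₚ r))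
    (hgh : ∀ a, h (g a) = algebraMap Λ Λq (φ a)) : Resolvable R φ q := by
  by_cases hle : singRad R φ ≤ q
  · have hmin : q ∈ (singRad R φ).minimalPrimes :=
      ⟨⟨inferInstance, hle⟩, fun P hP hPq => hq.2 ⟨hP.1, bot_le⟩ hPq⟩
    haveI : Ring.KrullDimLE 0 Λq := by
      rw [Ring.krullDimLE_iff, IsLocalization.AtPrime.ringKrullDim_eq_height q Λq,
        Ideal.height_eq_zero_iff.2 hq]
      rfl
    haveI : IsLocalRing Λq := IsLocalization.AtPrime.isLocalRing Λq q
    have hdim : ringKrullDim Λq = 0 := ringKrullDimZero_iff_ringKrullDim_eq_zero.1 inferInstance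
    letI : Algebra R B := ((algebraMap Rₚ B).comp (algebraMap R Rₚ)).toAlgebra
    haveI : IsScalarTower R Rₚ B := IsScalarTower.of_algebraMap_eq fun _ => rfl
    let g' : A →ₐ[R] B := { g with commutes' := hg }
    let G : Rₚ ⊗[R] A →ₐ[Rₚ] B :=
      Algebra.TensorProduct.lift (Algebra.ofId Rₚ B) g' fun _ _ => Commute.all _ _
    refine resolvable_of_dim_zero (Rₚ := Rₚ) (Λq := Λq) φ q hmin hdim
      ⟨B, inferInstance, inferInstance, inferInstance, G, h, ?_, ?_, fun hh => ?_⟩
    · refine Algebra.TensorProduct.ext' fun r a => ?_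
      rw [AlgHom.comp_apply, Algebra.TensorProduct.lift_tmul, Algebra.TensorProduct.lift_tmul, map_mul,
        Algebra.ofId_apply, AlgHom.commutes, Algebra.ofId_apply]
      exact congrArg _ (hgh a)
    · rw [singRad, singRad, singularIdeal_eq_top_of_smooth Rₚ B, Ideal.map_top, Ideal.radical_top]
      exact le_top
    · rw [singRad, singularIdeal_eq_top_of_smooth Rₚ B, Ideal.map_top, Ideal.radical_top,
        IsLocalization.AtPrime.map_eq_maximalIdeal q Λq] at hh
      exact (IsLocalRing.maximalIdeal.isMaximal Λq).ne_top (top_le_iff.1 hh)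
  · exact ⟨A, inferInstance, inferInstance, inferInstance, AlgHom.id R A, φ, AlgHom.comp_id φ, le_rfl, hle⟩

/-- The smooth algebra obtained by pushing out along a map of bases. -/
theorem exists_smooth_pushout {Qb Rp D Λq : Type u} [CommRing Qb] [CommRing Rp] [CommRing D] [Algebra Qb D]
    [Algebra.Smooth Qb D] [CommRing Λq] (κ : Qb →+* Rp) (f : Rp →+* Λq) (θ : D →+* Λq)
    (hθ : ∀ x, θ (algebraMap Qb D x) = f (κ x)) :
    ∃ (B : Type u) (_ : CommRing B) (_ : Algebra Rp B) (_ : Algebra.Smooth Rp B) (ι₂ : D →+* B) (h : B →+* Λq),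
      (∀ r, h (algebraMap Rp B r) = f r) ∧ (∀ x, h (ι₂ x) = θ x) ∧
      ∀ x, ι₂ (algebraMap Qb D x) = algebraMap Rp B (κ x) := by
  letI : Algebra Qb Rp := κ.toAlgebra
  letI : Algebra Qb Λq := (f.comp κ).toAlgebra
  let f' : Rp →ₐ[Qb] Λq := { f with commutes' := fun _ => rfl }
  let θ' : D →ₐ[Qb] Λq := { θ with commutes' := hθ }
  let h := Algebra.TensorProduct.lift f' θ' fun _ _ => Commute.all _ _
  refine ⟨Rp ⊗[Qb] D, inferInstance, inferInstance, inferInstance,
    (Algebra.TensorProduct.includeRight : D →ₐ[Qb] Rp ⊗[Qb] D).toRingHom, h.toRingHom, fun r => ?_, fun x => ?_,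
    fun x => ?_⟩
  · show h (r ⊗ₜ 1) = f r
    rw [Algebra.TensorProduct.lift_tmul, map_one, mul_one]
    rfl
  · show h (1 ⊗ₜ x) = θ x
    rw [Algebra.TensorProduct.lift_tmul, map_one, one_mul]
    rfl
  · show (1 : Rp) ⊗ₜ[Qb] algebraMap Qb D x = κ x ⊗ₜ[Qb] (1 : D)
    rw [Algebra.algebraMap_eq_smul_one, TensorProduct.tmul_smul, TensorProduct.smul_tmul',
      Algebra.smul_def, mul_one]
    rfl

/-- A singular-ideal element stays one after base change. -/
theorem tmul_mem_singularIdeal {R A R' : Type u} [CommRing R] [CommRing A] [Algebra R A]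
    [Algebra.FinitePresentation R A] [CommRing R'] [Algebra R R'] {x : A} (hx : x ∈ singularIdeal R A) :
    (1 : R') ⊗ₜ[R] x ∈ singularIdeal R' (R' ⊗[R] A) := by
  let incl : A →+* R' ⊗[R] A := (Algebra.TensorProduct.includeRight : A →ₐ[R] R' ⊗[R] A).toRingHom
  rw [(Smoothing.singularIdeal_eq (R := R) (A := A)).1] at hx
  rw [(Smoothing.singularIdeal_eq (R := R') (A := R' ⊗[R] A)).1]
  obtain ⟨m, hm⟩ := hx
  refine ⟨m, ?_⟩
  have h1 := Ideal.mem_map_of_mem incl hm
  rw [map_pow, Ideal.map_span] at h1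
  refine Ideal.span_mono ?_ h1
  rintro _ ⟨y, hy, rfl⟩
  exact (Smoothing.isStandard_baseChange (R' := R') y).2 hy

end Smoothing.Insep
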