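import Groth.Agent.Lib.Smoothing.Separable.Model

/-!
# The model with compatible universal maps
-/

set_option autoImplicit false
set_option backward.isDefEq.respectTransparency false

open MvPolynomial

namespace Smoothing.Insep

universe u

open Smoothing.Separable

/-- A model over the polynomial ring whose universal maps can be chosen compatibly. -/
theorem exists_model_pair {k A : Type u} [Field k] [CommRing A] [Algebra k A] [Algebra.FinitePresentation k A] {r : ℕ} (a : Fin r → A)
    (ha : ∀ j, a j ∈ singularIdeal k A) (d n : ℕ) :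
    ∃ (C : Type u) (_ : CommRing C) (_ : Algebra (MvPolynomial (Fin d) k) C) (_ : Algebra k C)
      (_ : IsScalarTower k (MvPolynomial (Fin d) k) C),
      Algebra.FinitePresentation (MvPolynomial (Fin d) k) C ∧
      ∃ (γ : A →ₐ[k] C) (M : ℕ), 0 < M ∧
        (∀ i, IsStrictlyStandard (MvPolynomial (Fin d) k) C
          (algebraMap (MvPolynomial (Fin d) k) C (X i ^ M))) ∧
        (∀ j, γ (a j) ∈ singularIdeal (MvPolynomial (Fin d) k) C) ∧
        ∀ (Λ₁ Λ₂ Λ₃ : Type u) [CommRing Λ₁] [Algebra k Λ₁] [CommRing Λ₂] [Algebra k Λ₂] [CommRing Λ₃]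
          (f₁ : Λ₁ →+* Λ₃) (f₂ : Λ₂ →+* Λ₃) (φ₁ : A →ₐ[k] Λ₁) (φ₂ : A →ₐ[k] Λ₂) (π₁ : Fin d → Λ₁)
          (π₂ : Fin d → Λ₂) (ν₁ : Fin d → Fin r → Λ₁) (ν₂ : Fin d → Fin r → Λ₂),
          (∀ i, π₁ i ^ n = ∑ j, ν₁ i j * φ₁ (a j)) → (∀ i, π₂ i ^ n = ∑ j, ν₂ i j * φ₂ (a j)) →
          (∀ x, f₁ (φ₁ x) = f₂ (φ₂ x)) → (∀ i, f₁ (π₁ i) = f₂ (π₂ i)) → (∀ i j, f₁ (ν₁ i j) = f₂ (ν₂ i j)) →
          ∃ (ψ₁ : C →ₐ[k] Λ₁) (ψ₂ : C →ₐ[k] Λ₂), ψ₁.comp γ = φ₁ ∧ ψ₂.comp γ = φ₂ ∧
            (∀ i, ψ₁ (algebraMap (MvPolynomial (Fin d) k) C (X i)) = π₁ i) ∧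
            (∀ i, ψ₂ (algebraMap (MvPolynomial (Fin d) k) C (X i)) = π₂ i) ∧
            ∀ x, f₁ (ψ₁ x) = f₂ (ψ₂ x) := by
  classical
  let R0 := MvPolynomial (Fin d) k
  let P := MvPolynomial (Fin d ⊕ (Fin d × Fin r)) A
  let J : Ideal P := Ideal.span (Set.range (modelRel a d n))
  let B := P ⧸ J
  let mk : P →ₐ[k] B := Ideal.Quotient.mkₐ k J
  letI : Algebra R0 B :=
    (aeval fun i => mk (X (Sum.inl i)) : R0 →ₐ[k] B).toRingHom.toAlgebra
  haveI : IsScalarTower k R0 B := IsScalarTower.of_algebraMap_eq fun c =>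
    ((aeval fun i => mk (X (Sum.inl i)) : R0 →ₐ[k] B).commutes c).symm
  have hX : ∀ i, mk (X (Sum.inl i)) = algebraMap R0 B (X i) := fun i => by
    show _ = (aeval (fun i => mk (X (Sum.inl i))) : R0 →ₐ[k] B) (X i)
    rw [aeval_X]
  haveI : Algebra.FiniteType k P := Algebra.FiniteType.trans (S := A) inferInstance inferInstance
  have hBft : Algebra.FiniteType k B :=
    Algebra.FiniteType.of_surjective (Ideal.Quotient.mkₐ k J) Ideal.Quotient.mk_surjective
  have hBft' : Algebra.FiniteType R0 B := Algebra.FiniteType.of_restrictScalars_finiteType k R0 B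
  haveI : Algebra.FinitePresentation R0 B :=
    (Algebra.FinitePresentation.of_finiteType (R := R0) (A := P ⧸ J)).1 hBft'
  let ιA : A →ₐ[k] B := mk.comp (IsScalarTower.toAlgHom k A P)
  have hsmB : ∀ j, Algebra.Smooth R0 (Localization.Away (ιA (a j))) := by
    intro j
    haveI : Algebra.Smooth k (Localization.Away (a j)) :=
      Algebra.basicOpen_subset_smoothLocus_iff_smooth.1 fun p hp => by
        by_contra hc
        have h1 := ha j
        rw [singularIdeal, PrimeSpectrum.mem_vanishingIdeal] at h1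
        exact hp (h1 p hc)
    haveI : Algebra.FormallySmooth R0 (Localization.Away (ιA (a j))) :=
      formallySmooth_model a d n j B mk Ideal.Quotient.mk_surjective Ideal.mk_ker hX
    haveI : Algebra.FinitePresentation B (Localization.Away (ιA (a j))) :=
      IsLocalization.Away.finitePresentation (ιA (a j))
    exact ⟨inferInstance, Algebra.FinitePresentation.trans R0 B _⟩
  have haB : ∀ j, ιA (a j) ∈ singularIdeal R0 B := fun j => by
    rw [singularIdeal, PrimeSpectrum.mem_vanishingIdeal]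
    intro p hp
    by_contra hc
    exact hp (Algebra.basicOpen_subset_smoothLocus_iff_smooth.2 (hsmB j) hc)
  have hxB : ∀ i, algebraMap R0 B (X i) ∈ singularIdeal R0 B := fun i => by
    refine isRadical_singularIdeal R0 B ⟨n, ?_⟩
    rw [← hX, ← map_pow]
    have h1 : mk (X (Sum.inl i) ^ n) = mk (∑ j, MvPolynomial.C (a j) * X (Sum.inr (i, j))) :=
      Ideal.Quotient.eq.2 (Ideal.subset_span ⟨i, rfl⟩)
    rw [h1, map_sum]
    refine Submodule.sum_mem _ fun j _ => ?_
    rw [map_mul]
    exact Ideal.mul_mem_right _ _ (haB j)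
  -- the retract
  obtain ⟨C, _, _, _, _, hCft, ⟨ret⟩, hC⟩ := exists_retract_free_kaehler (R := R0) (A := B)
  haveI := hCft
  letI : Algebra k C := ((algebraMap R0 C).comp (algebraMap k R0)).toAlgebra
  haveI : IsScalarTower k R0 C := IsScalarTower.of_algebraMap_eq fun _ => rfl
  haveI : Algebra.FiniteType R0 C := Algebra.FiniteType.trans (S := B) inferInstance inferInstance
  haveI : Algebra.FinitePresentation R0 C := Algebra.FinitePresentation.of_finiteType.1 ‹_›
  have hCb : ∀ b ∈ singularIdeal R0 B, Algebra.Smooth R0 (Localization.Away (algebraMap B C b)) ∧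
      Module.Free (Localization.Away (algebraMap B C b))
        Ω[Localization.Away (algebraMap B C b)⁄R0] := by
    intro b hb
    haveI : Algebra.Smooth R0 (Localization.Away b) :=
      Algebra.basicOpen_subset_smoothLocus_iff_smooth.1 fun p hp => by
        by_contra hc
        rw [singularIdeal, PrimeSpectrum.mem_vanishingIdeal] at hb
        exact hp (hb p hc)
    obtain ⟨h1, h2⟩ := hC b inferInstance
    haveI := h1
    haveI : Algebra.FinitePresentation C (Localization.Away (algebraMap B C b)) :=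
      IsLocalization.Away.finitePresentation (algebraMap B C b)
    exact ⟨⟨inferInstance, Algebra.FinitePresentation.trans R0 C _⟩, h2⟩
  have hpow : ∀ i, ∃ e₀, ∀ m, e₀ ≤ m →
      IsStrictlyStandard R0 C (algebraMap R0 C (X i) ^ m) := by
    intro i
    obtain ⟨h1, h2⟩ := hCb _ (hxB i)
    rw [IsScalarTower.algebraMap_apply R0 B C]
    let c := algebraMap B C (algebraMap R0 B (X i))
    haveI : Algebra.Smooth R0 (Localization.Away c) := h1
    haveI : Module.Free (Localization.Away c) Ω[Localization.Away c⁄R0] := h2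
    rcases subsingleton_or_nontrivial (Localization.Away c) with hs | hn
    · haveI : Subsingleton Ω[Localization.Away c⁄R0] := Module.subsingleton (Localization.Away c) _
      exact pow_isStrictlyStandard c 0 0
        (LinearEquiv.ofSubsingleton _ _)
    · let bs := Module.finBasis (Localization.Away c) Ω[Localization.Away c⁄R0]
      exact pow_isStrictlyStandard c 0 _ ((LinearEquiv.prodUnique ..).trans bs.equivFun)
  choose e₀ he₀ using hpow
  let γ : A →ₐ[k] C :=
    { (algebraMap B C).comp ιA.toRingHom with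
      commutes' := fun c => by
        show algebraMap B C (ιA (algebraMap k A c)) = _
        rw [ιA.commutes, IsScalarTower.algebraMap_apply k R0 B, ← IsScalarTower.algebraMap_apply R0 B C]
        rfl }
  refine ⟨C, inferInstance, inferInstance, inferInstance, inferInstance, inferInstance, γ,
    ∑ i, e₀ i + 1, Nat.succ_pos _, fun i => ?_, fun j => ?_, ?_⟩
  · rw [map_pow]
    exact he₀ i _ ((Finset.single_le_sum (fun i _ => Nat.zero_le (e₀ i)) (Finset.mem_univ i)).trans
      (Nat.le_succ _))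
  · rw [singularIdeal, PrimeSpectrum.mem_vanishingIdeal]
    intro p hp
    by_contra hc
    exact hp (Algebra.basicOpen_subset_smoothLocus_iff_smooth.2 (hCb _ (haB j)).1 hc)
  · have key : ∀ (Λ : Type u) [CommRing Λ] [Algebra k Λ] (φ : A →ₐ[k] Λ) (π : Fin d → Λ) (ν : Fin d → Fin r → Λ),
        (∀ i, π i ^ n = ∑ j, ν i j * φ (a j)) → ∃ ψ : C →ₐ[k] Λ, ψ.comp γ = φ ∧
          (∀ i, ψ (algebraMap R0 C (X i)) = π i) ∧
          ∀ x p, mk p = ret x → ψ x =
            MvPolynomial.eval₂Hom φ.toRingHom (Sum.elim π fun p => ν p.1 p.2) p := by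
      intro Λ _ _ φ π ν hrel
      let ev : P →+* Λ := MvPolynomial.eval₂Hom φ.toRingHom (Sum.elim π fun p => ν p.1 p.2)
      have hJ : ∀ x ∈ J, ev x = 0 := fun x hx => by
        have hle : J ≤ RingHom.ker ev := Ideal.span_le.2 (by
          rintro _ ⟨i, rfl⟩
          show ev (modelRel a d n i) = 0
          simp only [modelRel, map_sub, map_pow, map_sum, map_mul]
          rw [show ev (X (Sum.inl i)) = π i from MvPolynomial.eval₂Hom_X' _ _ _, hrel, sub_eq_zero]
          refine Finset.sum_congr rfl fun j _ => ?_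
          rw [show ev (MvPolynomial.C (a j)) = φ (a j) from MvPolynomial.eval₂Hom_C _ _ _,
            show ev (X (Sum.inr (i, j))) = ν i j from MvPolynomial.eval₂Hom_X' _ _ _, mul_comm])
        exact hle hx
      let σ : B →+* Λ := Ideal.Quotient.lift J ev hJ
      have hσA : ∀ x, σ (ιA x) = φ x := fun x => MvPolynomial.eval₂Hom_C _ _ x
      let ψ : C →ₐ[k] Λ :=
        { σ.comp ret.toRingHom with
          commutes' := fun c => by
            show σ (ret (algebraMap R0 C (algebraMap k R0 c))) = _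
            rw [IsScalarTower.algebraMap_apply R0 B C, ret.commutes]
            show σ (algebraMap R0 B (algebraMap k R0 c)) = _
            rw [← IsScalarTower.algebraMap_apply k R0 B, ← ιA.commutes, hσA, φ.commutes] }
      refine ⟨ψ, AlgHom.ext fun x => ?_, fun i => ?_, fun x p h => (congrArg σ h).symm⟩
      · show σ (ret (algebraMap B C (ιA x))) = φ x
        rw [ret.commutes]
        exact hσA x
      · show σ (ret (algebraMap R0 C (X i))) = π i
        rw [IsScalarTower.algebraMap_apply R0 B C, ret.commutes]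
        show σ (algebraMap R0 B (X i)) = π i
        rw [← hX]
        exact MvPolynomial.eval₂Hom_X' _ _ _
    intro Λ₁ Λ₂ Λ₃ _ _ _ _ _ f₁ f₂ φ₁ φ₂ π₁ π₂ ν₁ ν₂ h₁ h₂ hφ hπ hν
    obtain ⟨ψ₁, hγ₁, hX₁, he₁⟩ := key Λ₁ φ₁ π₁ ν₁ h₁
    obtain ⟨ψ₂, hγ₂, hX₂, he₂⟩ := key Λ₂ φ₂ π₂ ν₂ h₂
    refine ⟨ψ₁, ψ₂, hγ₁, hγ₂, hX₁, hX₂, fun x => ?_⟩
    obtain ⟨p, hp⟩ := Ideal.Quotient.mk_surjective (I := J) (ret x)
    rw [he₁ x p hp, he₂ x p hp]
    have : f₁.comp (MvPolynomial.eval₂Hom φ₁.toRingHom (Sum.elim π₁ fun p : Fin d × Fin r => ν₁ p.1 p.2)) =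
        f₂.comp (MvPolynomial.eval₂Hom φ₂.toRingHom (Sum.elim π₂ fun p : Fin d × Fin r => ν₂ p.1 p.2)) := by
      refine MvPolynomial.ringHom_ext (fun y => ?_) fun v => ?_
      · simp only [RingHom.comp_apply, MvPolynomial.eval₂Hom_C]
        exact hφ y
      · simp only [RingHom.comp_apply, MvPolynomial.eval₂Hom_X']
        rcases v with i | ⟨i, j⟩
        · exact hπ i
        · exact hν i j
    exact RingHom.congr_fun this p

end Smoothing.Insep
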