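import Groth.Agent.Lib.Smoothing.Insep.LocalData
import Groth.Agent.Lib.Smoothing.Insep.Minimal
import Groth.Agent.Lib.Smoothing.Separable.Main
import Mathlib.RingTheory.Polynomial.Basic

/-!
# Tools for the twisted problem
-/

set_option autoImplicit false
set_option backward.isDefEq.respectTransparency false
set_option maxHeartbeats 800000

universe u

open scoped TensorProduct
open IsLocalRing

namespace Smoothing.Insep

/-- Powers of the ideal of a finite family lie in the ideal of powers. -/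
theorem exists_span_pow_le (d e : ℕ) : ∃ N : ℕ, 0 < N ∧ ∀ {S : Type u} [CommRing S] (x : Fin d → S),
    Ideal.span (Set.range x) ^ N ≤ Ideal.span (Set.range fun i => x i ^ e) := by
  let R0 := MvPolynomial (Fin d) ℤ
  have hle : Ideal.span (Set.range (MvPolynomial.X : Fin d → R0)) ≤
      (Ideal.span (Set.range fun i => (MvPolynomial.X i : R0) ^ e)).radical := Ideal.span_le.2 (by
    rintro _ ⟨i, rfl⟩
    exact ⟨e, Ideal.subset_span ⟨i, rfl⟩⟩)
  obtain ⟨N, hN⟩ := Ideal.exists_pow_le_of_le_radical_of_fg hle (IsNoetherian.noetherian _)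
  refine ⟨N + 1, Nat.succ_pos _, fun {S} _ x => ?_⟩
  have h := Ideal.map_mono (f := (MvPolynomial.eval₂Hom (Int.castRingHom S) x))
    ((Ideal.pow_le_pow_right N.le_succ).trans hN)
  rw [Ideal.map_pow, Ideal.map_span, Ideal.map_span, ← Set.range_comp, ← Set.range_comp] at h
  convert h using 4
  · funext i; simp
  · simp

/-- The localizations of a truncated problem at a minimal prime. -/
theorem exists_localized_mod {R S : Type u} [CommRing R] [IsNoetherianRing R] [CommRing S] [Algebra R S]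
    (K : Ideal R) (q' : Ideal S) [q'.IsPrime] (hKq : K.map (algebraMap R S) ≤ q')
    (hmin : ∀ P' : Ideal S, P'.IsPrime → K.map (algebraMap R S) ≤ P' → P' ≤ q' → q' ≤ P') :
    ∃ (Rp Λq : Type u) (_ : CommRing Rp) (_ : CommRing Λq) (ρ : R →+* Rp) (σ : S →+* Λq) (f : Rp →+* Λq),
      (∀ x, f (ρ x) = σ (algebraMap R S x)) ∧ (∀ x, algebraMap R S x ∉ q' → IsUnit (ρ x)) ∧
      (∀ y, y ∉ q' → IsUnit (σ y)) ∧ (∀ x ∈ K, ρ x = 0) ∧
      ∀ (Cb B : Type u) [CommRing Cb] [Algebra R Cb] [Algebra.FinitePresentation R Cb] (ψ : Cb →ₐ[R] S)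
        [CommRing B] [Algebra Rp B] [Algebra.Smooth Rp B] (g : Cb →+* B) (h : B →+* Λq),
        (∀ r, h (algebraMap Rp B r) = f r) → (∀ r, g (algebraMap R Cb r) = algebraMap Rp B (ρ r)) →
        (∀ x, h (g x) = σ (ψ x)) →
        ∃ φK : (Cb ⧸ K.map (algebraMap R Cb)) →ₐ[R ⧸ K] (S ⧸ K.map (algebraMap R S)),
          (∀ x, φK (Ideal.Quotient.mk _ x) = Ideal.Quotient.mk _ (ψ x)) ∧
          Resolvable (R ⧸ K) φK (q'.map (Ideal.Quotient.mk (K.map (algebraMap R S)))) := by
  let KΛ : Ideal S := K.map (algebraMap R S)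
  let qb : Ideal (S ⧸ KΛ) := q'.map (Ideal.Quotient.mk KΛ)
  haveI : qb.IsPrime := Ideal.map_isPrime_of_surjective Ideal.Quotient.mk_surjective
    (by rw [Ideal.mk_ker]; exact hKq)
  have hqb : qb.comap (Ideal.Quotient.mk KΛ) = q' := by
    rw [Ideal.comap_map_of_surjective _ Ideal.Quotient.mk_surjective, ← RingHom.ker_eq_comap_bot,
      Ideal.mk_ker, sup_eq_left.2 hKq]
  have hqmin : qb ∈ minimalPrimes (S ⧸ KΛ) := by
    refine ⟨⟨inferInstance, bot_le⟩, fun P₁ hP hPq => ?_⟩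
    haveI := hP.1
    have h := hmin (P₁.comap (Ideal.Quotient.mk KΛ)) (Ideal.IsPrime.comap _)
      (fun x hx => by
        show Ideal.Quotient.mk KΛ x ∈ P₁
        rw [Ideal.Quotient.eq_zero_iff_mem.2 hx]
        exact P₁.zero_mem)
      (hqb ▸ Ideal.comap_mono hPq)
    intro y hy
    obtain ⟨y, rfl⟩ := Ideal.Quotient.mk_surjective y
    exact h (hqb.le (show y ∈ qb.comap _ from hy))
  let pb : Ideal (R ⧸ K) := qb.comap (algebraMap (R ⧸ K) (S ⧸ KΛ))
  haveI : pb.IsPrime := Ideal.IsPrime.comap _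
  let f : Localization.AtPrime pb →+* Localization.AtPrime qb :=
    Localization.localRingHom pb qb (algebraMap (R ⧸ K) (S ⧸ KΛ)) rfl
  refine ⟨Localization.AtPrime pb, Localization.AtPrime qb, inferInstance, inferInstance,
    (algebraMap (R ⧸ K) _).comp (Ideal.Quotient.mk K), (algebraMap (S ⧸ KΛ) _).comp (Ideal.Quotient.mk KΛ), f,
    fun x => Localization.localRingHom_to_map _ _ _ _ _,
    fun x hx => IsLocalization.map_units _ (⟨Ideal.Quotient.mk K x, fun h => hx (hqb.le h)⟩ : pb.primeCompl),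
    fun y hy => IsLocalization.map_units _ (⟨Ideal.Quotient.mk KΛ y, fun h => hy (hqb.le h)⟩ : qb.primeCompl),
    fun x hx => ?_, ?_⟩
  · show algebraMap (R ⧸ K) _ (Ideal.Quotient.mk K x) = 0
    rw [Ideal.Quotient.eq_zero_iff_mem.2 hx, map_zero]
  intro Cb B _ _ _ ψ _ _ _ g h hh hg hgh
  letI : Algebra (Localization.AtPrime pb) (Localization.AtPrime qb) := f.toAlgebra
  haveI : IsScalarTower (R ⧸ K) (Localization.AtPrime pb) (Localization.AtPrime qb) :=
    IsScalarTower.of_algebraMap_eq fun x => by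
      show _ = Localization.localRingHom pb qb (algebraMap (R ⧸ K) (S ⧸ KΛ)) rfl (algebraMap (R ⧸ K) _ x)
      rw [Localization.localRingHom_to_map, IsScalarTower.algebraMap_apply (R ⧸ K) (S ⧸ KΛ) (Localization.AtPrime qb)]
  haveI : Algebra.FinitePresentation (R ⧸ K) (Cb ⧸ K.map (algebraMap R Cb)) := by
    haveI : Algebra.FiniteType R (Cb ⧸ K.map (algebraMap R Cb)) :=
      Algebra.FiniteType.of_surjective (Ideal.Quotient.mkₐ R _) Ideal.Quotient.mk_surjective
    exact Algebra.FinitePresentation.of_finiteType.1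
      (Algebra.FiniteType.of_restrictScalars_finiteType R (R ⧸ K) (Cb ⧸ K.map (algebraMap R Cb)))
  let φK : (Cb ⧸ K.map (algebraMap R Cb)) →ₐ[R ⧸ K] (S ⧸ KΛ) :=
    AlgHom.extendScalarsOfSurjective Ideal.Quotient.mk_surjective
      (Ideal.Quotient.liftₐ (K.map (algebraMap R Cb)) ((Ideal.Quotient.mkₐ R _).comp ψ) fun x hx => by
        refine Ideal.Quotient.eq_zero_iff_mem.2 ?_
        have h1 := Ideal.mem_map_of_mem ψ.toRingHom hx
        rwa [Ideal.map_map, AlgHom.toRingHom_eq_coe, AlgHom.comp_algebraMap] at h1)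
  refine ⟨φK, fun _ => rfl, ?_⟩
  let gK : (Cb ⧸ K.map (algebraMap R Cb)) →+* B := Ideal.Quotient.lift _ g fun x hx => by
    have h1 : (K.map (algebraMap R Cb)).map g ≤ ⊥ := by
      rw [Ideal.map_map, Ideal.map_le_iff_le_comap]
      intro y hy
      rw [Ideal.mem_comap, Ideal.mem_bot, RingHom.comp_apply, hg]
      show algebraMap _ B (algebraMap (R ⧸ K) _ (Ideal.Quotient.mk K y)) = 0
      rw [Ideal.Quotient.eq_zero_iff_mem.2 hy, map_zero, map_zero]
    exact (Submodule.mem_bot _).1 (h1 (Ideal.mem_map_of_mem g hx))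
  refine resolvable_of_smooth_factor φK qb hqmin (Rₚ := Localization.AtPrime pb) (Λq := Localization.AtPrime qb)
    gK (AlgHom.mk h hh) (fun x => ?_) (fun x => ?_)
  · obtain ⟨x, rfl⟩ := Ideal.Quotient.mk_surjective x
    exact hg x
  · obtain ⟨x, rfl⟩ := Ideal.Quotient.mk_surjective x
    exact hgh x

/-- The maps out of the truncated local rings. -/
theorem exists_local_maps {k Λ Rp Λq : Type u} {ι : Type} [Field k] [CommRing Λ] [Algebra k Λ] (η : ι → Λ)
    (𝔮 : Ideal Λ) [𝔮.IsPrime] [CommRing Rp] [CommRing Λq] (c : MvPolynomial ι k →+* Rp) (s : Λ →+* Λq)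
    (f : Rp →+* Λq) (hcs : ∀ q, f (c q) = s (MvPolynomial.aeval η q))
    (hcu : ∀ q, q ∉ evalPrime (k := k) η 𝔮 → IsUnit (c q)) (hsu : ∀ l, l ∉ 𝔮 → IsUnit (s l))
    {d e N n : ℕ} (g : Fin d → MvPolynomial ι k)
    (hspanQ : Ideal.span (Set.range fun i => algebraMap _ (Localization.AtPrime (evalPrime (k := k) η 𝔮)) (g i)) =
      maximalIdeal (Localization.AtPrime (evalPrime (k := k) η 𝔮)))
    (hgL : Ideal.span (Set.range fun i => algebraMap Λ (Localization.AtPrime 𝔮) (MvPolynomial.aeval η (g i))) =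
      maximalIdeal (Localization.AtPrime 𝔮))
    (hNe : ∀ {S : Type u} [CommRing S] (x : Fin d → S),
      Ideal.span (Set.range x) ^ N ≤ Ideal.span (Set.range fun i => x i ^ e))
    (hzero : ∀ i, c (g i) ^ e = 0) :
    ∃ (κ : Qtr (k := k) η 𝔮 (N + n) →+* Rp)
      (θ : Localization.AtPrime 𝔮 ⧸ maximalIdeal (Localization.AtPrime 𝔮) ^ (N + n) →+* Λq),
      (∀ q, κ (toQtr η 𝔮 (N + n) q) = c q) ∧
      (∀ l, θ (Ideal.Quotient.mk _ (algebraMap Λ (Localization.AtPrime 𝔮) l)) = s l) ∧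
      (∀ x ∈ (maximalIdeal (Localization.AtPrime 𝔮) ^ N).map (Ideal.Quotient.mk _), θ x = 0) ∧
      ∀ (D : Type u) [CommRing D] (j : D →+* Localization.AtPrime 𝔮 ⧸ maximalIdeal (Localization.AtPrime 𝔮) ^ (N + n))
        (ψ : Qtr (k := k) η 𝔮 (N + n) →+* D),
        (∀ q, j (ψ (toQtr η 𝔮 (N + n) q)) =
          Ideal.Quotient.mk _ (algebraMap Λ (Localization.AtPrime 𝔮) (MvPolynomial.aeval η q))) →
        ∀ x, θ (j (ψ x)) = f (κ x) := by
  let L := Localization.AtPrime 𝔮
  haveI : (evalPrime (k := k) η 𝔮).IsPrime := Ideal.IsPrime.comap _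
  let P₀ := evalPrime (k := k) η 𝔮
  let Qp := Localization.AtPrime P₀
  have hcu' : ∀ x : P₀.primeCompl, IsUnit (c x) := fun x => hcu x x.2
  have hsu' : ∀ x : 𝔮.primeCompl, IsUnit (s x) := fun x => hsu x x.2
  let κ₀ : Qp →+* Rp := IsLocalization.lift hcu'
  have hκ₀ : ∀ q, κ₀ (algebraMap _ Qp q) = c q := fun q => IsLocalization.lift_eq hcu' q
  let κ : Qtr (k := k) η 𝔮 (N + n) →+* Rp := Ideal.Quotient.lift _ κ₀ fun x hx => by
    have h1 : (maximalIdeal Qp ^ (N + n)).map κ₀ ≤ ⊥ := by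
      refine (Ideal.map_mono (Ideal.pow_le_pow_right (Nat.le_add_right N n))).trans ?_
      rw [← hspanQ, Ideal.map_pow, Ideal.map_span, ← Set.range_comp]
      refine (hNe _).trans (Ideal.span_le.2 ?_)
      rintro _ ⟨i, rfl⟩
      show κ₀ (algebraMap _ Qp (g i)) ^ e ∈ (⊥ : Ideal Rp)
      rw [hκ₀, Ideal.mem_bot, hzero]
    exact (Submodule.mem_bot _).1 (h1 (Ideal.mem_map_of_mem κ₀ hx))
  let θ₀ : L →+* Λq := IsLocalization.lift hsu'
  have hθ₀ : ∀ l, θ₀ (algebraMap Λ L l) = s l := fun l => IsLocalization.lift_eq hsu' l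
  have hθN : ∀ x ∈ maximalIdeal L ^ N, θ₀ x = 0 := by
    intro x hx
    have h1 : (maximalIdeal L ^ N).map θ₀ ≤ ⊥ := by
      rw [← hgL, Ideal.map_pow, Ideal.map_span, ← Set.range_comp]
      refine (hNe _).trans (Ideal.span_le.2 ?_)
      rintro _ ⟨i, rfl⟩
      show θ₀ (algebraMap Λ L (MvPolynomial.aeval η (g i))) ^ e ∈ (⊥ : Ideal Λq)
      rw [hθ₀, Ideal.mem_bot, ← hcs, ← map_pow, hzero, map_zero]
    exact (Submodule.mem_bot _).1 (h1 (Ideal.mem_map_of_mem θ₀ hx))
  let θ : L ⧸ maximalIdeal L ^ (N + n) →+* Λq := Ideal.Quotient.lift _ θ₀ fun x hx =>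
    hθN x (Ideal.pow_le_pow_right (Nat.le_add_right N n) hx)
  refine ⟨κ, θ, hκ₀, hθ₀, fun x hx => ?_, fun D _ j ψ hj => ?_⟩
  · obtain ⟨y, hy, rfl⟩ := (Ideal.mem_map_iff_of_surjective _ Ideal.Quotient.mk_surjective).1 hx
    exact hθN y hy
  · have : (θ.comp j).comp ψ = f.comp κ := by
      refine Ideal.Quotient.ringHom_ext (IsLocalization.ringHom_ext P₀.primeCompl (RingHom.ext fun q => ?_))
      show θ (j (ψ (toQtr η 𝔮 (N + n) q))) = f (κ (toQtr η 𝔮 (N + n) q))
      rw [hj]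
      refine (hθ₀ _).trans ((hcs q).symm.trans (congrArg f ?_))
      exact (hκ₀ q).symm
    exact fun x => RingHom.congr_fun this x

/-- A resolution over an auxiliary smooth base gives one over the ground ring. -/
theorem resolvable_restrict {k R A Cb S : Type u} [CommRing k] [CommRing R] [Algebra k R]
    [Algebra.FinitePresentation k R] [Algebra.FormallySmooth k R] [CommRing A] [Algebra k A] [CommRing Cb]
    [Algebra R Cb] [CommRing S] [Algebra k S] [Algebra R S] [IsScalarTower k R S] (γc : A →+* Cb)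
    (hγc : ∀ c, γc (algebraMap k A c) = algebraMap R Cb (algebraMap k R c)) (ψ : Cb →ₐ[R] S) (φ₁ : A →ₐ[k] S)
    (hψγ : ∀ x, ψ (γc x) = φ₁ x) {r : ℕ} (a : Fin r → A)
    (ha : singularIdeal k A = Ideal.span (Set.range a)) (haC : ∀ l, γc (a l) ∈ singularIdeal R Cb)
    (q' : Ideal S) (hres : Resolvable R ψ q') : Resolvable k φ₁ q' := by
  obtain ⟨B', _, _, hB', g', h', hgh, hle, hne⟩ := hres
  haveI := hB'
  letI : Algebra k B' := ((algebraMap R B').comp (algebraMap k R)).toAlgebra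
  haveI : IsScalarTower k R B' := IsScalarTower.of_algebraMap_eq fun _ => rfl
  have hsing : singularIdeal R B' ≤ singularIdeal k B' := by
    intro x hx
    rw [singularIdeal, PrimeSpectrum.mem_vanishingIdeal] at hx ⊢
    intro p hp
    refine hx p fun hsm => hp ?_
    haveI : Algebra.FormallySmooth R (Localization.AtPrime p.asIdeal) := hsm
    exact Algebra.FormallySmooth.comp k R _
  have hh : singRad R h' ≤ singRad k (h'.restrictScalars k) := Ideal.radical_mono (Ideal.map_mono hsing)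
  let γ' : A →ₐ[k] B' :=
    { g'.toRingHom.comp γc with
      commutes' := fun c => by
        show g' (γc (algebraMap k A c)) = algebraMap R B' (algebraMap k R c)
        rw [hγc, g'.commutes] }
  refine ⟨B', inferInstance, inferInstance, Algebra.FinitePresentation.trans k R B', γ', h'.restrictScalars k,
    AlgHom.ext fun x => ?_, ?_, fun hle' => hne (hh.trans hle')⟩
  · show h' (g' (γc x)) = φ₁ x
    rw [show h' (g' (γc x)) = ψ (γc x) from AlgHom.congr_fun hgh _]
    exact hψγ x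
  · refine le_trans ?_ (hle.trans hh)
    rw [singRad, Ideal.IsRadical.radical_le_iff
      (show (singRad R ψ).IsRadical from Ideal.radical_isRadical _), ha, Ideal.map_span, Ideal.span_le]
    rintro _ ⟨_, ⟨l, rfl⟩, rfl⟩
    refine Ideal.le_radical ?_
    rw [← hψγ]
    exact Ideal.mem_map_of_mem ψ (haC l)

/-- Minimality of the prime over the powers of the twisted parameters. -/
theorem twisted_minimal {Λ : Type u} [CommRing Λ] (𝔮 : Ideal Λ) [𝔮.IsPrime] {d : ℕ} (h₀ : Fin d → Λ)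
    (hspan : Ideal.span (Set.range fun i => algebraMap Λ (Localization.AtPrime 𝔮) (h₀ i)) =
      maximalIdeal (Localization.AtPrime 𝔮))
    (P' : Ideal (Polynomial Λ)) [P'.IsPrime] (hP'q : P' ≤ 𝔮.map Polynomial.C)
    (hH : ∀ i, Polynomial.C (h₀ i) ∈ P') : 𝔮.map Polynomial.C ≤ P' := by
  haveI : (P'.comap (Polynomial.C : Λ →+* Polynomial Λ)).IsPrime := Ideal.IsPrime.comap _
  refine Ideal.map_le_iff_le_comap.2 fun y hy => ?_
  let L := Localization.AtPrime 𝔮
  let P'' := P'.comap (Polynomial.C : Λ →+* Polynomial Λ)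
  have h1 : algebraMap Λ L y ∈ P''.map (algebraMap Λ L) := by
    have h2 : maximalIdeal L ≤ P''.map (algebraMap Λ L) := by
      rw [← hspan, Ideal.span_le]
      rintro _ ⟨i, rfl⟩
      exact Ideal.mem_map_of_mem _ (hH i)
    exact h2 ((IsLocalization.AtPrime.to_map_mem_maximal_iff L 𝔮 y).2 hy)
  obtain ⟨s, hs, h3⟩ := (IsLocalization.algebraMap_mem_map_algebraMap_iff 𝔮.primeCompl L P'' y).1 h1
  refine ((inferInstance : P''.IsPrime).mem_or_mem h3).resolve_left fun h => hs ?_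
  have := (Ideal.mem_map_C_iff.1 (hP'q h)) 0
  simpa using this

end Smoothing.Insep
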