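import Groth.Agent.Lib.Smoothing.Insep.GlobalData
import Groth.Agent.Lib.Smoothing.Insep.Core
import Groth.Agent.Lib.Smoothing.Insep.TwistTools
import Groth.Agent.Lib.Smoothing.Insep.Minimal
import Groth.Agent.Lib.Smoothing.Insep.Model
import Groth.Agent.Lib.Smoothing.Insep.Exponents
import Groth.Agent.Lib.Smoothing.Separable.Main

/-!
# Resolution after adjoining a variable
-/

set_option autoImplicit false
set_option backward.isDefEq.respectTransparency false
set_option maxHeartbeats 2000000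

universe u

open scoped TensorProduct
open IsLocalRing

namespace Smoothing.Insep

/-- The problem over a polynomial ring in one variable can be resolved. -/
theorem resolvable_twist {k A Λ : Type u} [Field k] (p : ℕ) [Fact p.Prime] [CharP k p] [CommRing A]
    [Algebra k A] [Algebra.FinitePresentation k A] [CommRing Λ] [Algebra k Λ] [IsNoetherianRing Λ]
    (φ : A →ₐ[k] Λ) (𝔮 : Ideal Λ) [𝔮.IsPrime] (hmin : 𝔮 ∈ (singRad k φ).minimalPrimes)
    [IsRegularLocalRing (Localization.AtPrime 𝔮)]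
    (hfs : CAlgX.IsAdicFormallySmooth k (Localization.AtPrime 𝔮) (maximalIdeal (Localization.AtPrime 𝔮))) :
    Resolvable k ((IsScalarTower.toAlgHom k Λ (Polynomial Λ)).comp φ) (𝔮.map Polynomial.C) := by
  classical
  let L := Localization.AtPrime 𝔮
  haveI : IsNoetherianRing A := Algebra.FiniteType.isNoetherianRing k A
  obtain ⟨r, a, ha⟩ := Submodule.fg_iff_exists_fin_generating_family.1
    (IsNoetherian.noetherian (singularIdeal k A))
  have haH : ∀ j, a j ∈ singularIdeal k A := fun j => ha ▸ Submodule.subset_span ⟨j, rfl⟩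
  let I : Ideal Λ := Ideal.span (Set.range fun j => φ (a j))
  have hI : (singularIdeal k A).map φ = I := by
    rw [← ha]
    show (Ideal.span (Set.range a)).map φ = _
    rw [Ideal.map_span, ← Set.range_comp]
    rfl
  have hrad : maximalIdeal L ≤ (I.map (algebraMap Λ L)).radical := by
    rw [Ideal.radical_eq_sInf]
    refine le_sInf fun P ⟨hP, hPp⟩ => ?_
    haveI := hPp
    let P' := P.comap (algebraMap Λ L)
    haveI : P'.IsPrime := Ideal.IsPrime.comap _
    have hP'q : P' ≤ 𝔮 := fun x hx =>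
      (IsLocalization.AtPrime.to_map_mem_maximal_iff L 𝔮 x).1 (IsLocalRing.le_maximalIdeal hPp.ne_top hx)
    have hle : singRad k φ ≤ P' := by
      rw [singRad, hI, Ideal.IsRadical.radical_le_iff (inferInstance : P'.IsPrime).isRadical]
      exact Ideal.map_le_iff_le_comap.1 hP
    have hq' : 𝔮 ≤ P' := hmin.2 ⟨inferInstance, hle⟩ hP'q
    rw [← Localization.AtPrime.map_eq_maximalIdeal]
    exact Ideal.map_le_iff_le_comap.2 hq'
  obtain ⟨n₀, hn₀⟩ := Ideal.exists_pow_le_of_le_radical_of_fg hrad (IsNoetherian.noetherian _)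
  let n := n₀ + 1
  have hn : maximalIdeal L ^ n ≤ Ideal.span (Set.range fun l => algebraMap Λ L (φ (a l))) := by
    refine (Ideal.pow_le_pow_right (Nat.le_succ _)).trans (hn₀.trans (le_of_eq ?_))
    rw [Ideal.map_span, ← Set.range_comp]
    rfl
  obtain ⟨d, hd⟩ : ∃ d : ℕ, ringKrullDim L = d :=
    ⟨(maximalIdeal L).spanFinrank, (IsRegularLocalRing.spanFinrank_maximalIdeal).symm⟩
  obtain ⟨Cm, _, _, _, _, hCm, γ, M, hM, hstd, hγ, huniv⟩ := exists_model_pair a haH d n
  haveI := hCm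
  obtain ⟨N, hN, hNe⟩ := exists_span_pow_le.{u} d (M * 8)
  obtain ⟨ι, _, η, g, hgP, hspanQ, hdimQ, hgL, D, _, iA, j, φD, μ, T, ν, hsm, hjc, hjφ, hkD, hgD, hT, hTν, hμν⟩ :=
    exists_globalData p φ 𝔮 hfs d hd a n hn N hN
  haveI := hsm
  let Q := MvPolynomial ι k
  let P₀ : Ideal Q := evalPrime (k := k) η 𝔮
  haveI : P₀.IsPrime := Ideal.IsPrime.comap _
  let Qp := Localization.AtPrime P₀
  haveI : IsRegularLocalRing Qp := IsRegularRing.isRegularLocalRing_localization P₀
  have he : 0 < M * 8 := by omega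
  obtain ⟨sQ, hsQ, hsQk⟩ := exists_killer (L := Qp) P₀ hdimQ g hspanQ he
  obtain ⟨tΛ, htΛ, htΛk⟩ := exists_killer (L := L) 𝔮 hd (fun i => MvPolynomial.aeval η (g i)) hgL he
  -- the twisted map
  let T' := T * tΛ
  let sη : Λ := MvPolynomial.aeval η sQ
  let R := Polynomial Q
  let τ : R →+* Polynomial Λ := Polynomial.eval₂RingHom
    (Polynomial.C.comp (MvPolynomial.aeval η : Q →ₐ[k] Λ).toRingHom) (Polynomial.C T' * Polynomial.X)
  letI : Algebra R (Polynomial Λ) := τ.toAlgebra
  have hτC : ∀ q, τ (Polynomial.C q) = Polynomial.C (MvPolynomial.aeval η q) := fun q =>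
    Polynomial.eval₂_C _ _
  have hτX : τ Polynomial.X = Polynomial.C T' * Polynomial.X := Polynomial.eval₂_X _ _
  have hkR : ∀ c : k, algebraMap k R c = Polynomial.C (MvPolynomial.C c) := fun c => rfl
  haveI : IsScalarTower k R (Polynomial Λ) := IsScalarTower.of_algebraMap_eq fun c => by
    show _ = τ (algebraMap k R c)
    rw [hkR, hτC, MvPolynomial.aeval_C]
    rfl
  let q' : Ideal (Polynomial Λ) := 𝔮.map Polynomial.C
  haveI : q'.IsPrime := Ideal.isPrime_map_C_of_isPrime
  have hCq : ∀ l, Polynomial.C l ∈ q' ↔ l ∈ 𝔮 := fun l => by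
    rw [Ideal.mem_map_C_iff]
    refine ⟨fun h => by simpa using h 0, fun h i => ?_⟩
    rw [Polynomial.coeff_C]
    split <;> simp [h]
  have hXq : (Polynomial.X : Polynomial Λ) ∉ q' := fun h => by
    have := (Ideal.mem_map_C_iff.1 h) 1
    rw [Polynomial.coeff_X_one] at this
    exact Ideal.one_notMem 𝔮 this
  let v : R := Polynomial.X * Polynomial.C sQ
  let w : Polynomial Λ := Polynomial.C T' * Polynomial.X * Polynomial.C sη
  have hτv : τ v = w := by rw [map_mul, hτX, hτC]
  have hwq : w ∉ q' := fun h => by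
    rcases (inferInstance : q'.IsPrime).mem_or_mem h with h | h
    · rcases (inferInstance : q'.IsPrime).mem_or_mem h with h | h
      · exact ((inferInstance : 𝔮.IsPrime).mem_or_mem ((hCq _).1 h)).elim hT htΛ
      · exact hXq h
    · exact hsQ ((hCq _).1 h)
  let G : Fin d → R := fun i => Polynomial.C (g i)
  let H : Fin d → Polynomial Λ := fun i => Polynomial.C (MvPolynomial.aeval η (g i))
  have hτG : ∀ i, τ (G i) = H i := fun i => hτC _
  obtain ⟨m, hm⟩ := exists_exponents G H (M * 8) v w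
    (fun i x hx => by
      show Polynomial.X * Polynomial.C sQ * x ∈ _
      rw [mul_assoc]
      exact Ideal.mul_mem_left _ _ (killer_polynomial g (M * 8) sQ i (hsQk i) x hx))
    (fun i x hx => by
      show Polynomial.C T' * Polynomial.X * Polynomial.C sη * x ∈ _
      rw [show Polynomial.C T' * Polynomial.X * Polynomial.C sη * x =
        Polynomial.C T * Polynomial.X * Polynomial.C sη * (Polynomial.C tΛ * x) by
          rw [map_mul]; ring]
      exact Ideal.mul_mem_left _ _
        (killer_polynomial (fun i => MvPolynomial.aeval η (g i)) (M * 8) tΛ i (htΛk i) x hx))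
  let P : Fin d → R := fun i => v ^ m i * G i
  let Pw : Fin d → Polynomial Λ := fun i => w ^ m i * H i
  have hτP : ∀ i, τ (P i) = Pw i := fun i => by rw [map_mul, map_pow, hτv, hτG]
  haveI : IsNoetherianRing R := Polynomial.isNoetherianRing
  let K : Ideal R := Ideal.span (Set.range fun i => (P i ^ M) ^ 8)
  have hHq : ∀ i, H i ∈ q' := fun i => (hCq _).2 (hgP i)
  have hKq : K.map (algebraMap R (Polynomial Λ)) ≤ q' := by
    rw [Ideal.map_le_iff_le_comap, Ideal.span_le]
    rintro _ ⟨i, rfl⟩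
    show τ ((P i ^ M) ^ 8) ∈ q'
    rw [map_pow, map_pow, hτP]
    exact Ideal.pow_mem_of_mem _ (Ideal.pow_mem_of_mem _ (Ideal.mul_mem_left _ _ (hHq i)) M hM) 8 (by norm_num)
  have hKmin : ∀ P' : Ideal (Polynomial Λ), P'.IsPrime → K.map (algebraMap R (Polynomial Λ)) ≤ P' → P' ≤ q' →
      q' ≤ P' := by
    intro P' hP' hKP hP'q
    refine twisted_minimal 𝔮 (fun i => MvPolynomial.aeval η (g i)) hgL P' hP'q fun i => ?_
    have h1 : τ ((P i ^ M) ^ 8) ∈ P' :=
      hKP (Ideal.mem_map_of_mem (algebraMap R (Polynomial Λ)) (Ideal.subset_span ⟨i, rfl⟩))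
    rw [map_pow, map_pow, hτP] at h1
    have h2 := hP'.mem_of_pow_mem M (hP'.mem_of_pow_mem 8 h1)
    exact (hP'.mem_or_mem h2).resolve_left fun h => hwq (hP'q (hP'.mem_of_pow_mem _ h))
  obtain ⟨Rp, Λq, _, _, ρ, σ, f, hf, hunit, hσu, hρK, hmodK⟩ := exists_localized_mod K q' hKq hKmin
  have hρv : IsUnit (ρ v) := hunit v (hτv.symm ▸ hwq)
  have hρG : ∀ i, ρ (G i) ^ (M * 8) = 0 := fun i => by
    have h1 : ρ ((P i ^ M) ^ 8) = 0 := hρK _ (Ideal.subset_span ⟨i, rfl⟩)
    rw [← pow_mul, map_pow, map_mul, map_pow, mul_pow] at h1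
    exact ((hρv.pow _).pow _).mul_right_eq_zero.1 h1
  obtain ⟨κ, θ, hκ, hθ₀, hθN, hθκ⟩ := exists_local_maps (n := n) η 𝔮 (ρ.comp (Polynomial.C : Q →+* R))
    (σ.comp (Polynomial.C : Λ →+* Polynomial Λ)) f
    (fun q => (hf _).trans (congrArg σ (hτC q)))
    (fun q hq => hunit _ (fun h => hq ((hCq _).1 ((hτC q).symm ▸ h))))
    (fun l hl => hσu _ (fun h => hl ((hCq _).1 h))) g hspanQ hgL hNe (fun i => hρG i)
  have hθκ' := hθκ D j iA.algebraMap hjc
  obtain ⟨B, _, _, _, ι₂, h, hhR, hhι, hιR⟩ :=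
    exists_smooth_pushout (Qb := Qtr (k := k) η 𝔮 (N + n)) (D := D) κ f (θ.comp j) hθκ'
  letI : Algebra k B := ((algebraMap Rp B).comp (ρ.comp (algebraMap k R))).toAlgebra
  let φ₂ : A →ₐ[k] B :=
    { ι₂.comp φD with
      commutes' := fun c => by
        show ι₂ (φD (algebraMap k A c)) = algebraMap Rp B (ρ (algebraMap k R c))
        rw [hkD, hkR]
        exact (hιR _).trans (congrArg _ (hκ _)) }
  let φ₁ : A →ₐ[k] Polynomial Λ := (IsScalarTower.toAlgHom k Λ (Polynomial Λ)).comp φ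
  let π₂ : Fin d → B := fun i => algebraMap Rp B (ρ (P i))
  let ν₂ : Fin d → Fin r → B := fun i l => algebraMap Rp B (ρ v) ^ (n * m i) * ι₂ (μ i l)
  let ν₁ : Fin d → Fin r → Polynomial Λ := fun i l =>
    w ^ (n * m i - 1) * (Polynomial.X * Polynomial.C sη * Polynomial.C tΛ) * Polynomial.C (ν i l)
  have hwsucc : ∀ i, w ^ (n * m i) = w ^ (n * m i - 1) * w := fun i => by
    rw [← pow_succ, Nat.sub_add_cancel (Nat.mul_pos (Nat.succ_pos _) (hm i).1)]
  have heq₁ : ∀ i, Pw i ^ n = ∑ l, ν₁ i l * φ₁ (a l) := by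
    intro i
    have h1 : (Polynomial.C T * H i ^ n) = ∑ l, Polynomial.C (ν i l) * Polynomial.C (φ (a l)) := by
      show Polynomial.C T * Polynomial.C (MvPolynomial.aeval η (g i)) ^ n = _
      rw [← Polynomial.C_pow, ← map_mul, hTν, map_sum]
      exact Finset.sum_congr rfl fun l _ => map_mul _ _ _
    calc Pw i ^ n = w ^ (n * m i - 1) * (Polynomial.X * Polynomial.C sη * Polynomial.C tΛ) *
          (Polynomial.C T * H i ^ n) := by
          show (w ^ m i * H i) ^ n = _
          rw [mul_pow, ← pow_mul, mul_comm (m i), hwsucc]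
          show w ^ (n * m i - 1) * (Polynomial.C (T * tΛ) * Polynomial.X * Polynomial.C sη) * _ = _
          rw [map_mul]; ring
      _ = _ := by
          rw [h1, Finset.mul_sum]
          exact Finset.sum_congr rfl fun l _ => (mul_assoc _ _ _).symm
  have heq₂ : ∀ i, π₂ i ^ n = ∑ l, ν₂ i l * φ₂ (a l) := by
    intro i
    show algebraMap Rp B (ρ (v ^ m i * G i)) ^ n = _
    rw [map_mul ρ (v ^ m i) (G i), map_mul (algebraMap Rp B), map_pow ρ v, map_pow (algebraMap Rp B), mul_pow, ← pow_mul, mul_comm (m i),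
      show algebraMap Rp B (ρ (G i)) = ι₂ (iA.algebraMap (toQtr η 𝔮 (N + n) (g i))) by
        exact ((hιR _).trans (congrArg _ (hκ _))).symm,
      ← map_pow ι₂, hgD, map_sum, Finset.mul_sum]
    refine Finset.sum_congr rfl fun l _ => ?_
    rw [map_mul ι₂, ← mul_assoc]
    rfl
  obtain ⟨ψ₁, ψ₂, hψ₁γ, -, hψ₁X, hψ₂X, hψ⟩ := huniv (Polynomial Λ) B Λq σ h φ₁ φ₂ Pw π₂ ν₁ ν₂ heq₁ heq₂
    (fun x => by
      show σ (Polynomial.C (φ x)) = h (ι₂ (φD x))
      rw [hhι, RingHom.comp_apply, hjφ]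
      exact (hθ₀ _).symm)
    (fun i => by
      show σ (Pw i) = h (algebraMap Rp B (ρ (P i)))
      rw [hhR, hf]
      exact congrArg σ (hτP i).symm)
    (fun i l => by
      show σ (ν₁ i l) = h (algebraMap Rp B (ρ v) ^ (n * m i) * ι₂ (μ i l))
      rw [map_mul h, map_pow h, hhR, hf, hhι, RingHom.comp_apply, show algebraMap R (Polynomial Λ) v = w from hτv,
        ← map_pow σ, hwsucc]
      show σ (w ^ (n * m i - 1) * (Polynomial.X * Polynomial.C sη * Polynomial.C tΛ) * Polynomial.C (ν i l)) = _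
      simp only [map_mul σ]
      have h1 : θ (j (μ i l)) * σ (Polynomial.C T) = σ (Polynomial.C (ν i l)) := by
        have h2 := hθN _ (hμν i l)
        rw [map_sub, map_mul, hθ₀, hθ₀, sub_eq_zero] at h2
        exact h2
      rw [← h1, show σ w = σ (Polynomial.C T) * σ (Polynomial.X * Polynomial.C sη * Polynomial.C tΛ) by
        rw [← map_mul]
        refine congrArg σ ?_
        show Polynomial.C (T * tΛ) * Polynomial.X * Polynomial.C sη = _
        rw [map_mul]; ring]
      simp only [map_mul]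
      ring)
  haveI : Algebra.FinitePresentation k R := Algebra.FinitePresentation.trans k Q R
  haveI : Algebra.FormallySmooth k R := Algebra.FormallySmooth.comp k Q R
  exact resolvable_of_model q' a ha.symm γ M hM hstd hγ φ₁ P Pw hτP
    (fun i => Ideal.mul_mem_left _ _ (hHq i)) (fun i => (hm i).2.1) (fun i => (hm i).2.2) ρ σ f hf h hhR K rfl
    hmodK ψ₁ ψ₂.toRingHom hψ₁γ hψ₁X hψ₂X (fun c => ψ₂.commutes c) hψ

end Smoothing.Insep
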