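import Groth.Agent.Lib.Smoothing.Insep.Residue

/-!
# Parameters of a prime with prescribed residue field
-/

set_option autoImplicit false
set_option backward.isDefEq.respectTransparency false
set_option maxHeartbeats 800000

universe u

open scoped TensorProduct
open KaehlerDifferential IsLocalRing MvPolynomial

namespace Smoothing.Insep

/-- Generators of the prime of a residue field stay independent parameters. -/
theorem exists_parameters_residue {F k L : Type u} {ι₀ : Type} [Fintype ι₀] [Field F] [PerfectField F] [Field k]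
    [CommRing L] [IsLocalRing L] [Algebra F k] [Algebra F L] [Algebra k L] [IsScalarTower F k L]
    [∀ (K : Type u) [Field K] [Algebra F K], Algebra.FormallySmooth F K]
    (B : Set k) (hB : Submodule.span k (D F k '' B) = ⊤)
    (hind : LinearIndependent (ResidueField L)
        fun b : B => (1 : ResidueField L) ⊗ₜ[L] D F L (algebraMap k L b))
    (E : IntermediateField k (ResidueField L)) (y : ι₀ → E) (hy : LinearIndependent E fun i => D k E (y i))
    (η : ι₀ → L) (hη : ∀ i, residue L (η i) = y i)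
    (p : Ideal (MvPolynomial ι₀ k)) [p.IsPrime]
    (hp : p = (maximalIdeal L).comap (aeval η : MvPolynomial ι₀ k →ₐ[k] L)) :
    ∃ (h : ℕ) (f : Fin h → MvPolynomial ι₀ k), (∀ l, f l ∈ p) ∧
      Ideal.span (Set.range fun l => algebraMap _ (Localization.AtPrime p) (f l)) =
        maximalIdeal (Localization.AtPrime p) ∧
      ∀ r : Fin h → L, ∑ l, r l * aeval η (f l) ∈ maximalIdeal L ^ 2 → ∀ l, r l ∈ maximalIdeal L := by
  classical
  let Q := MvPolynomial ι₀ k
  let Qp := Localization.AtPrime p
  let K := ResidueField L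
  let κ := ResidueField Qp
  have hφu : ∀ s : p.primeCompl, IsUnit ((aeval η : Q →ₐ[k] L) s) := fun s => by
    refine IsLocalRing.notMem_maximalIdeal.1 fun hm => s.2 ?_
    show (s : Q) ∈ p
    exact SetLike.le_def.1 hp.ge hm
  -- the map to `L`
  let φp : Qp →ₐ[k] L := IsLocalization.liftAlgHom (M := p.primeCompl) (f := aeval η) hφu
  have hφp : ∀ q, φp (algebraMap Q Qp q) = aeval η q := fun q => IsLocalization.lift_eq _ q
  letI : Algebra Qp L := φp.toRingHom.toAlgebra
  haveI : IsScalarTower k Qp L := IsScalarTower.of_algebraMap_eq fun c => (φp.commutes c).symm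
  haveI : IsScalarTower F Qp L := IsScalarTower.of_algebraMap_eq fun c => by
    rw [IsScalarTower.algebraMap_apply F k L, IsScalarTower.algebraMap_apply F k Qp,
      ← IsScalarTower.algebraMap_apply k Qp L]
  haveI : IsLocalHom (algebraMap Qp L) := ⟨fun x hx => by
    obtain ⟨a, s, rfl⟩ := IsLocalization.exists_mk'_eq p.primeCompl x
    rw [IsLocalization.AtPrime.isUnit_mk'_iff Qp p]
    intro ha
    have h1 : algebraMap Qp L (algebraMap Q Qp a) ∈ maximalIdeal L := by
      show φp (algebraMap Q Qp a) ∈ maximalIdeal L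
      rw [hφp]
      rw [hp] at ha
      exact ha
    rw [← IsLocalization.mk'_spec Qp a s, map_mul] at h1
    exact (IsLocalRing.notMem_maximalIdeal.2 (hx.mul ((IsLocalization.map_units Qp s).map _))) h1⟩
  -- the map to `E`
  have hres : ∀ q, residue L (aeval η q) = ((aeval y : Q →ₐ[k] E) q : K) := by
    intro q
    have : (IsScalarTower.toAlgHom k L K).comp (aeval η) = E.val.comp (aeval y : Q →ₐ[k] E) :=
      MvPolynomial.algHom_ext fun i => by
        rw [AlgHom.comp_apply, AlgHom.comp_apply, aeval_X, aeval_X]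
        exact hη i
    exact AlgHom.congr_fun this q
  have hεu : ∀ s : p.primeCompl, IsUnit ((aeval y : Q →ₐ[k] E) s) := fun s => by
    refine Ne.isUnit fun h0 => ?_
    have := hres s
    rw [h0, ZeroMemClass.coe_zero, residue_eq_zero_iff] at this
    exact IsLocalRing.notMem_maximalIdeal.2 (hφu s) this
  let εp : Qp →ₐ[k] E := IsLocalization.liftAlgHom (M := p.primeCompl) (f := aeval y) hεu
  have hεp : ∀ q, εp (algebraMap Q Qp q) = aeval y q := fun q => IsLocalization.lift_eq _ q
  letI : Algebra Qp E := εp.toRingHom.toAlgebra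
  haveI : IsScalarTower k Qp E := IsScalarTower.of_algebraMap_eq fun c => (εp.commutes c).symm
  haveI : IsLocalHom εp.toRingHom := ⟨fun x hx => by
    obtain ⟨a, s, rfl⟩ := IsLocalization.exists_mk'_eq p.primeCompl x
    rw [IsLocalization.AtPrime.isUnit_mk'_iff Qp p]
    intro ha
    have h0 : aeval y a = 0 := Subtype.ext (by
      rw [← hres, ZeroMemClass.coe_zero, residue_eq_zero_iff]
      rw [hp] at ha; exact ha)
    refine hx.ne_zero ?_
    show εp _ = 0
    refine (mul_eq_zero.1 ?_).resolve_right ((IsLocalization.map_units Qp s).map εp).ne_zero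
    rw [← map_mul, IsLocalization.mk'_spec, hεp, h0]⟩
  haveI : IsScalarTower F Qp E := IsScalarTower.of_algebraMap_eq fun c => by
    rw [IsScalarTower.algebraMap_apply F k E, IsScalarTower.algebraMap_apply F k Qp,
      ← IsScalarTower.algebraMap_apply k Qp E]
  letI : Algebra κ E := (IsLocalRing.ResidueField.lift εp.toRingHom).toAlgebra
  haveI : IsScalarTower Qp κ E := IsScalarTower.of_algebraMap_eq fun _ => rfl
  letI : Algebra κ K := (IsLocalRing.ResidueField.map (algebraMap Qp L)).toAlgebra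
  let U := κ ⊗[Qp] Ω[Qp⁄F]
  let gV : Ω[Qp⁄F] →+ K ⊗[L] Ω[L⁄F] :=
    (TensorProduct.mk L K Ω[L⁄F] 1).toAddMonoidHom.comp (KaehlerDifferential.map F F Qp L).toAddMonoidHom
  obtain ⟨ΘV, hΘ⟩ := exists_semilinear (κ := κ) (K := K) gV fun (r : Qp) (m : Ω[Qp⁄F]) => by
    show (1 : K) ⊗ₜ[L] KaehlerDifferential.map F F Qp L (r • m) = _
    rw [map_smul, ← algebraMap_smul L r (KaehlerDifferential.map F F Qp L m), TensorProduct.tmul_smul,
      TensorProduct.smul_tmul', ← Algebra.algebraMap_eq_smul_one]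
    show _ = algebraMap L K (algebraMap Qp L r) • ((1 : K) ⊗ₜ[L] KaehlerDifferential.map F F Qp L m)
    rw [TensorProduct.smul_tmul', smul_eq_mul, mul_one]
  let gE : Ω[Qp⁄F] →ₗ[Qp] Ω[E⁄k] := KaehlerDifferential.map F k Qp E
  let ΘE : U →ₗ[κ] Ω[E⁄k] := gE.liftBaseChange κ
  have hΘV : ∀ z : Qp, ΘV ((1 : κ) ⊗ₜ[Qp] D F Qp z) = (1 : K) ⊗ₜ[L] D F L (φp z) := fun z => by
    rw [hΘ]
    show (1 : K) ⊗ₜ[L] KaehlerDifferential.map F F Qp L (D F Qp z) = _
    rw [KaehlerDifferential.map_D]
    rfl
  have hΘE : ∀ z : Qp, ΘE ((1 : κ) ⊗ₜ[Qp] D F Qp z) = D k E (εp z) := fun z => by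
    rw [LinearMap.liftBaseChange_tmul, one_smul]
    show KaehlerDifferential.map F k Qp E (D F Qp z) = _
    rw [KaehlerDifferential.map_D]
    rfl
  let w : B ⊕ ι₀ → Ω[Qp⁄F] := Sum.elim (fun b => D F Qp (algebraMap k Qp b))
    (fun i => D F Qp (algebraMap Q Qp (X i)))
  let w' : B ⊕ ι₀ → U := fun i => (1 : κ) ⊗ₜ[Qp] w i
  obtain ⟨h, f, hfm, hfp, hspan, hli⟩ := exists_cotangent_basis p
  refine ⟨h, f, hfp, hspan, ?_⟩
  haveI : Algebra.FormallySmooth F Qp := by
    haveI : Algebra.FormallySmooth k Qp :=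
      haveI : Algebra.FormallyEtale Q Qp := .of_isLocalization p.primeCompl
      Algebra.FormallySmooth.comp k Q Qp
    exact Algebra.FormallySmooth.comp F k Qp
  have hu := indep_tmul_D (F := F) (fun l => (⟨algebraMap Q Qp (f l), hfm l⟩ : maximalIdeal Qp)) hli
  have hy' : LinearIndependent κ fun i => D k E (y i) :=
    hy.restrict_scalars (fun r s hrs => (algebraMap κ E).injective (by
      simpa only [Algebra.algebraMap_eq_smul_one] using hrs))
  have hv : ∀ b : B, ΘV (w' (Sum.inl b)) = (1 : K) ⊗ₜ[L] D F L (algebraMap k L b) := fun b => by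
    show ΘV ((1 : κ) ⊗ₜ[Qp] D F Qp (algebraMap k Qp (b : k))) = _
    rw [hΘV, AlgHom.commutes]
  have hkey : LinearIndependent K fun l => ΘV ((1 : κ) ⊗ₜ[Qp] D F Qp (algebraMap Q Qp (f l))) := by
    refine indep_of_maps ΘV ΘE w' ?_ ?_ ?_ _ hu (fun l => ?_) (fun l => ?_)
    · rw [show (fun b => ΘV (w' (Sum.inl b))) = fun b : B => (1 : K) ⊗ₜ[L] D F L (algebraMap k L b) from funext hv]
      exact hind
    · intro b
      show ΘE ((1 : κ) ⊗ₜ[Qp] D F Qp (algebraMap k Qp (b : k))) = 0
      rw [hΘE, AlgHom.commutes, Derivation.map_algebraMap]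
    · rw [show (fun i => ΘE (w' (Sum.inr i))) = fun i => D k E (y i) from funext fun i => by
        show ΘE ((1 : κ) ⊗ₜ[Qp] D F Qp (algebraMap Q Qp (X i))) = _
        rw [hΘE, hεp, aeval_X]]
      exact hy'
    · exact tmul_mem_span w _ (D_mem_span_localization B hB Qp p.primeCompl _)
    · rw [hΘE, hεp]
      have : aeval y (f l) = 0 := Subtype.ext (by
        rw [← hres, ZeroMemClass.coe_zero, residue_eq_zero_iff]
        have := hfp l
        rw [hp] at this; exact this)
      rw [this, map_zero]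
  intro r hr l
  rw [← residue_eq_zero_iff]
  refine Fintype.linearIndependent_iff.1 hkey (fun l => residue L (r l)) ?_ l
  have h2 := tmul_D_eq_zero (F := F) hr
  rw [map_sum, TensorProduct.tmul_sum] at h2
  rw [← h2]
  refine Finset.sum_congr rfl fun l _ => ?_
  have hfm' : aeval η (f l) ∈ maximalIdeal L := by
    have := hfp l
    rw [hp] at this
    exact this
  rw [hΘV, hφp, Derivation.leibniz, TensorProduct.tmul_add, TensorProduct.tmul_smul, TensorProduct.tmul_smul,
    ← algebraMap_smul K (r l) ((1 : K) ⊗ₜ[L] D F L (aeval η (f l))),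
    ← algebraMap_smul K (aeval η (f l)) ((1 : K) ⊗ₜ[L] D F L (r l)),
    show algebraMap L K (aeval η (f l)) = 0 from (residue_eq_zero_iff _).2 hfm', zero_smul, add_zero]
  rfl

end Smoothing.Insep
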