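import Groth.Agent.Lib.Smoothing.NilDeform
import Groth.Agent.Lib.Smoothing.Separable.Quotient
import Groth.Agent.Lib.RegLoc.Basic
import Groth.Agent.Lib.FibreFlat.RegularFlat
import Mathlib.RingTheory.LocalRing.Module
import Mathlib.RingTheory.TensorProduct.Free

/-!
# Truncated regular local rings over a coefficient field
-/

set_option autoImplicit false
set_option backward.isDefEq.respectTransparency false
set_option maxHeartbeats 400000

universe u

open scoped TensorProduct
open IsLocalRing MvPolynomial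

namespace Smoothing.Insep

/-- Nakayama for a nilpotent ideal. -/
theorem eq_top_of_nilpotent {R M : Type*} [CommRing R] [AddCommGroup M] [Module R M] (I : Ideal R)
    (hI : IsNilpotent I) (S : Submodule R M) (h : ∀ z : M, z ∈ S ⊔ I • (⊤ : Submodule R M)) : S = ⊤ := by
  obtain ⟨n, hn⟩ := hI
  have h' : (⊤ : Submodule R M) ≤ S ⊔ I • ⊤ := fun z _ => h z
  have key : ∀ j, (⊤ : Submodule R M) ≤ S ⊔ I ^ j • ⊤ := by
    intro j
    induction j with
    | zero => rw [pow_zero, Ideal.one_eq_top, Submodule.top_smul]; exact le_sup_right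
    | succ j ih =>
      refine ih.trans (sup_le le_sup_left ?_)
      calc I ^ j • (⊤ : Submodule R M) ≤ I ^ j • (S ⊔ I • ⊤) := Submodule.smul_mono le_rfl h'
        _ = I ^ j • S ⊔ I ^ (j + 1) • ⊤ := by rw [Submodule.smul_sup, ← Submodule.mul_smul, ← pow_succ]
        _ ≤ S ⊔ I ^ (j + 1) • ⊤ := sup_le_sup_right Submodule.smul_le_right _
  have := key n
  rw [hn, Ideal.zero_eq_bot, Submodule.bot_smul, sup_bot_eq] at this
  exact top_le_iff.1 this

/-- The truncated polynomial ring. -/
abbrev TF (F : Type u) [Field F] (d N : ℕ) : Type u :=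
  MvPolynomial (Fin d) F ⧸ (Ideal.span (Set.range (X : Fin d → MvPolynomial (Fin d) F))) ^ N

variable {F L K : Type u} [Field F] [CommRing L] [IsRegularLocalRing L] [Algebra F L] [Field K] [Algebra F K]
  {d N : ℕ}

/-- A section of the residue map identifies a truncated regular local ring with a truncated polynomial ring. -/
theorem exists_truncation (hd : ringKrullDim L = d) (x : Fin d → L)
    (hx : Ideal.span (Set.range x) = maximalIdeal L) (hN : 0 < N)
    (π : L ⧸ maximalIdeal L ^ N →ₐ[F] K)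
    (hker : RingHom.ker π.toRingHom = (maximalIdeal L).map (Ideal.Quotient.mk _))
    (σ : K →ₐ[F] L ⧸ maximalIdeal L ^ N) (hσ : ∀ c, π (σ c) = c) :
    ∃ Φ : TF F d N ⊗[F] K →ₐ[F] L ⧸ maximalIdeal L ^ N, Function.Bijective Φ ∧
      (∀ c, Φ (1 ⊗ₜ c) = σ c) ∧
      ∀ i, Φ (Ideal.Quotient.mk _ (X i) ⊗ₜ 1) = Ideal.Quotient.mk _ (x i) := by
  classical
  let R := MvPolynomial (Fin d) F
  let m₀ : Ideal R := Ideal.span (Set.range X)
  let T := TF F d N
  let Lb := L ⧸ maximalIdeal L ^ N
  letI : Algebra R L := (aeval x : R →ₐ[F] L).toRingHom.toAlgebra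
  haveI : IsScalarTower F R L := IsScalarTower.of_algebraMap_eq fun c => ((aeval x : R →ₐ[F] L).commutes c).symm
  have hXx : ∀ i, algebraMap R L (X i) = x i := fun i => aeval_X x i
  have hm₀ : m₀.map (algebraMap R L) = maximalIdeal L := by
    rw [Ideal.map_span, ← Set.range_comp, ← hx]
    exact congrArg Ideal.span (congrArg Set.range (funext hXx))
  haveI hmax : m₀.IsMaximal := by
    refine Ideal.isMaximal_iff.2 ⟨fun h => (maximalIdeal.isMaximal L).ne_top (by
      rw [← hm₀, (Ideal.eq_top_iff_one _).2 h, Ideal.map_top]), fun J z hJ hzm hzJ => ?_⟩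
    obtain ⟨c, hc⟩ := Separable.exists_C_sub_mem_span_X z
    have hc0 : c ≠ 0 := fun h => hzm (by simpa [h] using hc)
    have h1 : MvPolynomial.C c ∈ J := by simpa using sub_mem hzJ (hJ hc)
    have h2 := J.mul_mem_left (MvPolynomial.C c⁻¹) h1
    rwa [← map_mul, inv_mul_cancel₀ hc0, map_one] at h2
  haveI : Module.Flat R L := by
    have hofList : Ideal.ofList (List.ofFn (X : Fin d → R)) = m₀ := by
      refine congrArg Ideal.span (Set.ext fun z => ?_)
      simp [List.mem_ofFn]
    refine GrothLib.FibreFlat.flat_of_weaklyRegular (List.ofFn X)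
      (GrothLib.FibreFlat.isWeaklyRegular_X F d) ?_ ?_ ?_
    · have h2 := (GrothLib.RegLoc.isRegular_ofFn (R := L) d hd x hx).toIsWeaklyRegular
      rw [← RingTheory.Sequence.isWeaklyRegular_map_algebraMap_iff L L, List.map_ofFn]
      rwa [show (algebraMap R L ∘ X) = x from funext hXx]
    · intro t ht
      obtain ⟨i, rfl⟩ := List.mem_ofFn.mp ht
      exact hm₀ ▸ Ideal.mem_map_of_mem _ (Ideal.subset_span ⟨i, rfl⟩)
    · rw [hofList]
      exact (Ideal.Quotient.maximal_ideal_iff_isField_quotient _).mp hmax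
  have hKeq : (m₀ ^ N).map (algebraMap R L) = maximalIdeal L ^ N := by rw [Ideal.map_pow, hm₀]
  let τ : T →ₐ[F] Lb := Ideal.Quotient.liftₐ _ ((Ideal.Quotient.mkₐ F _).comp (aeval x : R →ₐ[F] L))
    fun a ha => Ideal.Quotient.eq_zero_iff_mem.2 (hKeq ▸ Ideal.mem_map_of_mem (algebraMap R L) ha)
  have hτX : ∀ i, τ (Ideal.Quotient.mk _ (X i)) = Ideal.Quotient.mk _ (x i) := fun i =>
    congrArg (Ideal.Quotient.mk _) (hXx i)
  letI : Algebra T Lb := τ.toRingHom.toAlgebra
  haveI : IsScalarTower F T Lb := IsScalarTower.of_algebraMap_eq fun c => (τ.commutes c).symm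
  haveI : Module.Flat T Lb := by
    haveI : Module.Flat (R ⧸ m₀ ^ N) (L ⧸ (m₀ ^ N).map (algebraMap R L)) :=
      flat_quotient_map (Λ := L) (m₀ ^ N)
    refine Module.Flat.of_linearEquiv (R := R ⧸ m₀ ^ N) (M := L ⧸ (m₀ ^ N).map (algebraMap R L))
      ({ (Ideal.quotEquivOfEq hKeq).toAddEquiv with
          map_smul' := fun r z => by
            obtain ⟨r, rfl⟩ := Ideal.Quotient.mk_surjective r
            obtain ⟨z, rfl⟩ := Ideal.Quotient.mk_surjective z
            rfl } : (L ⧸ (m₀ ^ N).map (algebraMap R L)) ≃ₗ[T] Lb).symm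
  let mT : Ideal T := m₀.map (Ideal.Quotient.mk _)
  haveI hmT : mT.IsMaximal := by
    refine Ideal.IsMaximal.map_of_surjective_of_ker_le Ideal.Quotient.mk_surjective (m := m₀) ?_
    rw [Ideal.mk_ker]
    exact Ideal.pow_le_self hN.ne'
  have hnil : IsNilpotent mT := ⟨N, by rw [← Ideal.map_pow, Ideal.map_quotient_self, Ideal.zero_eq_bot]⟩
  haveI : IsLocalRing T := by
    refine IsLocalRing.of_unique_max_ideal ⟨mT, hmT, fun J hJ => (hmT.eq_of_le hJ.ne_top ?_).symm⟩
    intro z hz
    obtain ⟨n, hn⟩ := hnil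
    have : z ^ n ∈ mT ^ n := Ideal.pow_mem_pow hz n
    rw [hn] at this
    exact hJ.isPrime.mem_of_pow_mem n (by rw [this]; exact J.zero_mem)
  have hmTeq : maximalIdeal T = mT := (IsLocalRing.eq_maximalIdeal hmT).symm
  have hπm : ∀ z ∈ maximalIdeal L, π (Ideal.Quotient.mk _ z) = 0 := fun z hz => by
    have h1 : Ideal.Quotient.mk (maximalIdeal L ^ N) z ∈ RingHom.ker π.toRingHom :=
      hker ▸ Ideal.mem_map_of_mem _ hz
    exact h1
  have hπτ : ∀ r ∈ mT, π (τ r) = 0 := fun r hr => by
    obtain ⟨r, hr', rfl⟩ := (Ideal.mem_map_iff_of_surjective _ Ideal.Quotient.mk_surjective).1 hr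
    exact hπm _ (hm₀ ▸ Ideal.mem_map_of_mem (algebraMap R L) hr')
  have hTC : ∀ r : T, ∃ c : F, r - algebraMap F T c ∈ mT := fun r => by
    obtain ⟨r, rfl⟩ := Ideal.Quotient.mk_surjective r
    obtain ⟨c, hc⟩ := Separable.exists_C_sub_mem_span_X r
    refine ⟨c, ?_⟩
    show Ideal.Quotient.mk _ r - Ideal.Quotient.mk _ (MvPolynomial.C c) ∈ mT
    rw [← map_sub]
    exact Ideal.mem_map_of_mem _ hc
  obtain ⟨ι, ⟨bK⟩⟩ : ∃ ι : Type u, Nonempty (Module.Basis ι F K) :=
    ⟨_, ⟨Module.Basis.ofVectorSpace F K⟩⟩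
  let v : ι → Lb := fun i => σ (bK i)
  have hπsmul : ∀ (r : T) (z : Lb), π (r • z) = π (τ r) * π z := fun r z => map_mul π (τ r) z
  have hπtop : ∀ z ∈ mT • (⊤ : Submodule T Lb), π z = 0 := fun z hz => by
    refine Submodule.smul_induction_on hz (fun r hr z _ => ?_) fun a b ha hb => by rw [map_add, ha, hb, add_zero]
    rw [hπsmul, hπτ r hr, zero_mul]
  have hli : LinearIndependent T v := by
    refine Module.IsLocalRing.linearIndependent_of_flat v ?_
    rw [linearIndependent_iff']
    intro s c hc i hi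
    choose c' hc' using fun j => IsLocalRing.residue_surjective (c j)
    choose a ha using fun j => hTC (c' j)
    have h1 : (∑ j ∈ s, c' j • v j) ∈ LinearMap.ker (TensorProduct.mk T (ResidueField T) Lb 1) := by
      rw [LinearMap.mem_ker, map_sum, ← hc]
      refine Finset.sum_congr rfl fun j _ => ?_
      rw [Function.comp_apply, ← hc' j, ← ResidueField.algebraMap_eq, algebraMap_smul]
      exact map_smul _ _ _
    have h1' : (∑ j ∈ s, c' j • v j) ∈ maximalIdeal T • (⊤ : Submodule T Lb) := by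
      rw [← LinearMap.ker_tensorProductMk]; exact h1
    rw [hmTeq] at h1'
    have h2 := hπtop _ h1'
    rw [map_sum] at h2
    have h3 : ∀ j, π (c' j • v j) = a j • bK j := fun j => by
      rw [hπsmul, show π (σ (bK j)) = bK j from hσ _,
        show τ (c' j) = τ (c' j - algebraMap F T (a j)) + τ (algebraMap F T (a j)) by
          rw [← map_add, sub_add_cancel],
        map_add, hπτ _ (ha j), zero_add, τ.commutes, π.commutes, Algebra.smul_def]
    simp only [h3] at h2
    have h4 := linearIndependent_iff'.1 bK.linearIndependent s a h2 i hi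
    rw [← hc' i, residue_eq_zero_iff, hmTeq]
    have := ha i
    rwa [h4, map_zero, sub_zero] at this
  have hsp : Submodule.span T (Set.range v) = ⊤ := by
    refine eq_top_of_nilpotent mT hnil _ fun z => ?_
    have hz : σ (π z) ∈ Submodule.span T (Set.range v) := by
      have : σ (π z) ∈ (Submodule.span F (Set.range v)) := by
        rw [show Set.range v = σ.toLinearMap '' Set.range bK by rw [← Set.range_comp]; rfl,
          ← Submodule.map_span, bK.span_eq, Submodule.map_top]
        exact ⟨π z, rfl⟩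
      exact Submodule.span_le_restrictScalars F T _ this
    have hd0 : z - σ (π z) ∈ mT • (⊤ : Submodule T Lb) := by
      have h1 : z - σ (π z) ∈ RingHom.ker π.toRingHom := by
        show π (z - σ (π z)) = 0
        rw [map_sub, hσ, sub_self]
      have e : mT.map (algebraMap T Lb) = (maximalIdeal L).map (Ideal.Quotient.mk _) := by
        refine Eq.trans ?_ (congrArg (Ideal.map (Ideal.Quotient.mk (maximalIdeal L ^ N))) hm₀)
        rw [Ideal.map_map, Ideal.map_map]
        rfl
      rw [Ideal.smul_top_eq_map, Submodule.restrictScalars_mem, e]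
      exact hker.le h1
    exact Submodule.mem_sup.2 ⟨_, hz, _, hd0, add_sub_cancel _ _⟩
  let Φ' : T ⊗[F] K →ₐ[T] Lb := Algebra.TensorProduct.lift (Algebra.ofId T Lb) σ fun _ _ => Commute.all _ _
  have hΦ1 : ∀ c, Φ' (1 ⊗ₜ c) = σ c := fun c => by
    rw [Algebra.TensorProduct.lift_tmul, map_one, one_mul]
  refine ⟨Φ'.restrictScalars F, ?_, hΦ1, fun i => ?_⟩
  · let bT := Algebra.TensorProduct.basis T bK
    let bv := Module.Basis.mk hli hsp.ge
    have heq : Φ'.toLinearMap = (bT.equiv bv (Equiv.refl ι)).toLinearMap := bT.ext fun i => by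
      rw [LinearEquiv.coe_coe, Module.Basis.equiv_apply, Equiv.refl_apply, Module.Basis.mk_apply,
        AlgHom.toLinearMap_apply, Algebra.TensorProduct.basis_apply]
      exact hΦ1 _
    show Function.Bijective Φ'.toLinearMap
    rw [heq]
    exact (bT.equiv bv (Equiv.refl ι)).bijective
  · show Φ' (_ ⊗ₜ 1) = _
    rw [Algebra.TensorProduct.lift_tmul, map_one, mul_one]
    exact hτX i

end Smoothing.Insep
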