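import Groth.Agent.Lib.Smoothing.Insep.Residue
import Groth.Agent.Lib.Smoothing.Insep.Truncation
import Groth.Agent.Lib.Cohen.NilpotentSmooth
import Mathlib.RingTheory.Unramified.Field
import Mathlib.RingTheory.Etale.Field

/-!
# Building blocks of the local resolution data
-/

set_option autoImplicit false
set_option backward.isDefEq.respectTransparency false
set_option maxHeartbeats 400000

universe u

open scoped TensorProduct
open KaehlerDifferential IsLocalRing

namespace Smoothing.Insep

/-- All but finitely many members of an independent family stay independent in the residue field. -/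
theorem exists_cofinite_indep {F k L : Type u} [Field F] [Field k] [CommRing L] [IsLocalRing L] [IsNoetherianRing L]
    [Algebra F k] [Algebra F L] [Algebra k L] [IsScalarTower F k L] (B : Set k)
    (hind : LinearIndependent (ResidueField L)
        fun b : B => (1 : ResidueField L) ⊗ₜ[L] D F L (algebraMap k L b)) :
    ∃ B₀ : Set k, B₀.Finite ∧ LinearIndependent (ResidueField L)
      fun b : (B \ B₀ : Set k) => D F (ResidueField L) (algebraMap k (ResidueField L) b) := by
  classical
  let K := ResidueField L
  let V := K ⊗[L] Ω[L⁄F]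
  let πV : V →ₗ[K] Ω[K⁄F] := mapBaseChange F L K
  let v : B → V := fun b => (1 : K) ⊗ₜ[L] D F L (algebraMap k L b)
  obtain ⟨n, x, hx⟩ : ∃ (n : ℕ) (x : Fin n → L), Ideal.span (Set.range x) = maximalIdeal L :=
    Submodule.fg_iff_exists_fin_generating_family.1 (IsNoetherian.noetherian (maximalIdeal L))
  have hker : LinearMap.ker πV ≤ Submodule.span K (Set.range fun i => ((1 : K) ⊗ₜ[L] D F L (x i) : V)) := by
    intro z hz
    obtain ⟨c, rfl⟩ := (exact_kerCotangentToTensor_mapBaseChange F L K residue_surjective z).1 hz
    obtain ⟨⟨a, ha⟩, rfl⟩ := Ideal.toCotangent_surjective _ c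
    rw [kerCotangentToTensor_toCotangent]
    have ham : a ∈ Ideal.span (Set.range x) := by
      rw [hx]
      exact (IsLocalRing.ker_residue (R := L)).le ha
    obtain ⟨r, rfl⟩ := Ideal.mem_span_range_iff_exists_fun.1 ham
    rw [map_sum, TensorProduct.tmul_sum]
    refine Submodule.sum_mem _ fun i _ => ?_
    have hxi : residue L (x i) = 0 := (residue_eq_zero_iff _).2 (hx ▸ Ideal.subset_span ⟨i, rfl⟩)
    rw [Derivation.leibniz, TensorProduct.tmul_add, TensorProduct.tmul_smul, TensorProduct.smul_tmul',
      TensorProduct.tmul_smul, TensorProduct.smul_tmul', ← Algebra.algebraMap_eq_smul_one,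
      ← Algebra.algebraMap_eq_smul_one, ResidueField.algebraMap_eq, hxi, TensorProduct.zero_tmul, add_zero]
    rw [show (residue L (r i) : K) ⊗ₜ[L] D F L (x i) = residue L (r i) • ((1 : K) ⊗ₜ[L] D F L (x i)) by
      rw [TensorProduct.smul_tmul', smul_eq_mul, mul_one]]
    exact Submodule.smul_mem _ _ (Submodule.subset_span ⟨i, rfl⟩)
  let U : Submodule K V := Submodule.span K (Set.range v) ⊓ LinearMap.ker πV
  haveI : Module.Finite K (Submodule.span K (Set.range fun i => ((1 : K) ⊗ₜ[L] D F L (x i) : V))) :=
    Module.Finite.span_of_finite K (Set.finite_range _)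
  have hU : U.FG := by
    haveI := Submodule.finiteDimensional_of_le (inf_le_right.trans hker : U ≤ _)
    exact Module.Finite.iff_fg.1 inferInstance
  obtain ⟨G, hG⟩ := hU
  have hcoord : ∀ g ∈ G, ∃ c : B →₀ K, Finsupp.linearCombination K v c = g := by
    intro g hg
    have h1 : g ∈ U := hG ▸ Submodule.subset_span hg
    have h2 := h1.1
    rw [← Finsupp.range_linearCombination] at h2
    exact h2
  choose c hc using hcoord
  let s₀ : Finset B := G.attach.biUnion fun g => (c g.1 g.2).support
  refine ⟨Subtype.val '' (s₀ : Set B), s₀.finite_toSet.image _, ?_⟩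
  have hU' : U ≤ Submodule.span K (v '' s₀) := by
    rw [← hG, Submodule.span_le]
    intro g hg
    rw [← hc g hg]
    refine (Finsupp.mem_span_image_iff_linearCombination K).2
      ⟨c g hg, (Finsupp.mem_supported _ _).2 fun b hb => ?_, rfl⟩
    exact Finset.mem_biUnion.2 ⟨⟨g, hg⟩, Finset.mem_attach _ _, hb⟩
  let ι : (B \ Subtype.val '' (s₀ : Set B) : Set k) → B := fun b => ⟨b, b.2.1⟩
  have hι : Function.Injective ι := fun a b h => Subtype.ext (congrArg Subtype.val h :)
  have hli : LinearIndependent K (v ∘ ι) := hind.comp ι hι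
  have hdisj : Disjoint (Submodule.span K (Set.range (v ∘ ι))) (LinearMap.ker πV) := by
    rw [Submodule.disjoint_def]
    intro z hz hzk
    have hz1 : z ∈ Submodule.span K (Set.range v) := Submodule.span_mono (Set.range_comp_subset_range ι v) hz
    have hz2 : z ∈ Submodule.span K (v '' s₀) := hU' ⟨hz1, hzk⟩
    have hd : Disjoint (Submodule.span K (v '' Set.range ι)) (Submodule.span K (v '' (s₀ : Set B))) := by
      refine hind.disjoint_span_image (Set.disjoint_left.2 ?_)
      rintro _ ⟨b, rfl⟩ hb
      exact b.2.2 ⟨ι b, hb, rfl⟩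
    rw [← Set.range_comp] at hd
    exact (Submodule.disjoint_def.1 hd) z hz hz2
  have := hli.map hdisj
  convert this using 1
  funext b
  show _ = πV ((1 : K) ⊗ₜ[L] D F L (algebraMap k L (b : k)))
  rw [mapBaseChange_tmul, one_smul, KaehlerDifferential.map_D, ← IsScalarTower.algebraMap_apply k L K]
  all_goals rfl

variable {F T K E : Type u} [Field F] [CommRing T] [Algebra F T] [Field K] [Algebra F K] [Field E] [Algebra F E]
  [Algebra E K] [IsScalarTower F E K]

/-- A tensor product of a ring with a field extension retracts onto a subfield. -/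
theorem exists_retraction :
    ∃ R : T ⊗[F] K →ₗ[F] T ⊗[F] E,
      (∀ a z, R (Algebra.TensorProduct.map (AlgHom.id F T) (IsScalarTower.toAlgHom F E K) a * z) = a * R z) ∧
      R 1 = 1 := by
  obtain ⟨r, hr⟩ := LinearMap.exists_leftInverse_of_injective (Algebra.linearMap E K)
    (LinearMap.ker_eq_bot.2 (algebraMap E K).injective)
  refine ⟨LinearMap.lTensor T (r.restrictScalars F), fun a z => ?_, ?_⟩
  · induction a using TensorProduct.induction_on with
    | zero => rw [map_zero, zero_mul, zero_mul, map_zero]
    | add a b ha hb => rw [map_add, add_mul, map_add, ha, hb, add_mul]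
    | tmul t e =>
      induction z using TensorProduct.induction_on with
      | zero => rw [mul_zero, map_zero, mul_zero]
      | add x y hx hy => rw [mul_add, map_add, hx, hy, map_add, mul_add]
      | tmul t' c =>
        rw [Algebra.TensorProduct.map_tmul, Algebra.TensorProduct.tmul_mul_tmul, LinearMap.lTensor_tmul,
          LinearMap.lTensor_tmul, Algebra.TensorProduct.tmul_mul_tmul]
        refine congrArg (_ ⊗ₜ[F] ·) ?_
        show r (algebraMap E K e * c) = e * r c
        rw [← Algebra.smul_def, map_smul, smul_eq_mul]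
  · rw [Algebra.TensorProduct.one_def, LinearMap.lTensor_tmul]
    refine congrArg (_ ⊗ₜ[F] ·) ?_
    show r 1 = 1
    have h := LinearMap.congr_fun hr 1
    rw [LinearMap.comp_apply, Algebra.linearMap_apply, map_one] at h
    exact h

omit [Field E] [Algebra F E] [Algebra E K] [IsScalarTower F E K] in
/-- An element of a tensor product involves finitely many coefficients. -/
theorem exists_finset_mem_range (z : T ⊗[F] K) :
    ∃ G : Finset K, ∀ (E' : Type u) [Field E'] [Algebra F E'] [Algebra E' K] [IsScalarTower F E' K],
      (G : Set K) ⊆ Set.range (algebraMap E' K) →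
        z ∈ Set.range (Algebra.TensorProduct.map (AlgHom.id F T) (IsScalarTower.toAlgHom F E' K)) := by
  classical
  induction z using TensorProduct.induction_on with
  | zero => exact ⟨∅, fun E' _ _ _ _ _ => ⟨0, map_zero _⟩⟩
  | add a b ha hb =>
    obtain ⟨G, hG⟩ := ha
    obtain ⟨H, hH⟩ := hb
    refine ⟨G ∪ H, fun E' _ _ _ _ h => ?_⟩
    rw [Finset.coe_union, Set.union_subset_iff] at h
    obtain ⟨x, hx⟩ := hG E' h.1
    obtain ⟨y, hy⟩ := hH E' h.2
    exact ⟨x + y, by rw [map_add, hx, hy]⟩
  | tmul t c =>
    refine ⟨{c}, fun E' _ _ _ _ h => ?_⟩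
    obtain ⟨e, he⟩ := h (Finset.mem_singleton_self c)
    exact ⟨t ⊗ₜ e, by rw [Algebra.TensorProduct.map_tmul]; exact congrArg (t ⊗ₜ[F] ·) he⟩

/-- A flat algebra over a nilpotent local base with residue extension generated differentially by the base
is smooth. -/
theorem smooth_of_residue {k R D E : Type u} [Field k] [CommRing R] [IsNoetherianRing R] [Algebra k R]
    [CommRing D] [Algebra R D] [Field E] [Algebra k E] [Algebra.EssFiniteType k E] [Algebra R E]
    [IsScalarTower k R E] (I : Ideal R) [I.IsMaximal] (hI : IsNilpotent I) [Module.Flat R D]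
    (ε : D →ₐ[R] E) (hε : Function.Surjective ε) (hker : RingHom.ker ε.toRingHom = I.map (algebraMap R D))
    {ι : Type} (y : ι → R) (hy : Submodule.span E (Set.range fun i => KaehlerDifferential.D k E (algebraMap R E (y i))) = ⊤) :
    Algebra.Smooth R D := by
  classical
  let κ := R ⧸ I
  letI : Field κ := Ideal.Quotient.field I
  have hIE : ∀ r ∈ I, algebraMap R E r = 0 := fun r hr => by
    rw [← ε.commutes]
    exact (hker.ge (Ideal.mem_map_of_mem _ hr) :)
  letI : Algebra κ E := (Ideal.Quotient.lift I (algebraMap R E) hIE).toAlgebra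
  haveI : IsScalarTower R κ E := IsScalarTower.of_algebraMap_eq fun _ => rfl
  letI : Algebra k κ := Ideal.Quotient.algebra k
  haveI : IsScalarTower k κ E := IsScalarTower.of_algebraMap_eq fun c => by
    show algebraMap k E c = algebraMap R E (algebraMap k R c)
    rw [← IsScalarTower.algebraMap_apply]
  haveI : Algebra.EssFiniteType κ E := Algebra.EssFiniteType.of_comp k κ E
  haveI : Algebra.FormallyUnramified κ E := by
    refine ⟨subsingleton_of_forall_eq 0 fun z => ?_⟩
    obtain ⟨w, rfl⟩ := KaehlerDifferential.map_surjective k κ E z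
    have h1 : w ∈ Submodule.span E (Set.range fun i => KaehlerDifferential.D k E (algebraMap R E (y i))) :=
      hy ▸ Submodule.mem_top
    induction h1 using Submodule.span_induction with
    | mem w hw =>
      obtain ⟨i, rfl⟩ := hw
      rw [KaehlerDifferential.map_D]
      exact (KaehlerDifferential.D κ E).map_algebraMap (Ideal.Quotient.mk I (y i))
    | zero => rw [map_zero]
    | add a b _ _ ha hb => rw [map_add, ha, hb, add_zero]
    | smul c a _ ha => rw [map_smul, ha, smul_zero]
  haveI : Module.Finite κ E := Algebra.FormallyUnramified.finite_of_free κ E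
  haveI : Algebra.IsSeparable κ E := Algebra.FormallyUnramified.isSeparable κ E
  haveI : Algebra.FormallyEtale κ E := Algebra.FormallyEtale.of_isSeparable κ E
  -- finiteness
  haveI : Module.Finite R D := by
    obtain ⟨G, hG⟩ := (Module.Finite.fg_top : (⊤ : Submodule κ E).FG)
    choose g hg using hε
    refine ⟨⟨G.image g, ?_⟩⟩
    refine eq_top_of_nilpotent I hI _ fun z => ?_
    have h1 : ε z ∈ Submodule.span R (G : Set E) := by
      rw [← Submodule.restrictScalars_span R κ Ideal.Quotient.mk_surjective, hG]
      exact Submodule.mem_top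
    have h2 : Submodule.span R (G : Set E) ≤
        (Submodule.span R ((G.image g : Finset D) : Set D)).map ε.toLinearMap := by
      rw [Submodule.map_span, Finset.coe_image]
      refine Submodule.span_mono fun e he => ?_
      exact ⟨g e, ⟨e, he, rfl⟩, hg e⟩
    obtain ⟨w, hw, hwz⟩ := h2 h1
    refine Submodule.mem_sup.2 ⟨w, hw, z - w, ?_, add_sub_cancel _ _⟩
    rw [Ideal.smul_top_eq_map, Submodule.restrictScalars_mem, ← hker]
    show ε (z - w) = 0
    rw [map_sub, show ε w = ε z from hwz, sub_self]
  haveI : Algebra.FinitePresentation R D :=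
    Algebra.FinitePresentation.of_finiteType.1 inferInstance
  haveI : Algebra.FormallySmooth κ (D ⧸ I.map (algebraMap R D)) := by
    let e₀ : (D ⧸ I.map (algebraMap R D)) ≃+* E :=
      (Ideal.quotEquivOfEq hker.symm).trans (RingHom.quotientKerEquivOfSurjective (f := ε.toRingHom) hε)
    let e : E ≃ₐ[κ] (D ⧸ I.map (algebraMap R D)) := (AlgEquiv.ofRingEquiv (f := e₀) fun r => by
      obtain ⟨r, rfl⟩ := Ideal.Quotient.mk_surjective r
      exact ε.commutes r).symm
    exact Algebra.FormallySmooth.of_equiv e
  haveI : Algebra.FormallySmooth R D := GrothLib.Cohen.formallySmooth_of_flat_of_nilpotent I hI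
  exact ⟨inferInstance, inferInstance⟩

end Smoothing.Insep
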