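import Groth.Agent.Lib.SepField.Smooth
import Groth.Prelude.Def_CAlgX
import Groth.Agent.S2471
import Mathlib.RingTheory.Ideal.Cotangent
import Mathlib.RingTheory.Smooth.Field
import Mathlib.FieldTheory.Perfect

/-!
# Parameters adapted to a residue field of a geometrically regular local ring
-/

set_option autoImplicit false
set_option backward.isDefEq.respectTransparency false
set_option maxHeartbeats 400000

universe u

open scoped TensorProduct
open KaehlerDifferential IsLocalRing MvPolynomial

namespace Smoothing.Insep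

/-- The differential criterion: a differential basis of the ground field stays independent in the fibre. -/
theorem exists_basis_indep {F k L : Type u} [Field F] [Field k] [CommRing L] [IsLocalRing L] [IsNoetherianRing L]
    [Algebra F k] [Algebra F L] [Algebra k L] [IsScalarTower F k L] [Algebra.FormallyUnramified ℤ F]
    (h : CAlgX.IsAdicFormallySmooth k L (maximalIdeal L)) :
    ∃ B : Set k, Submodule.span k (D F k '' B) = ⊤ ∧
      LinearIndependent (ResidueField L)
        fun b : B => (1 : ResidueField L) ⊗ₜ[L] D F L (algebraMap k L b) := by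
  classical
  have hinj := (Groth.Agent.S2471.result.1 h).2
  obtain ⟨t, a, ha, hsp, hli⟩ := exists_linearIndependent' k (D F k : k → Ω[k⁄F])
  rw [KaehlerDifferential.span_range_derivation] at hsp
  refine ⟨Set.range a, ?_, ?_⟩
  · rw [← hsp, ← Set.range_comp]
  let bF : Module.Basis t k Ω[k⁄F] := Module.Basis.mk hli hsp.ge
  let eS := LinearEquiv.ofBijective _ (GrothLib.SepField.bijective_map_of_formallyUnramified ℤ F k)
  let eT := LinearEquiv.ofBijective _ (GrothLib.SepField.bijective_map_of_formallyUnramified ℤ F L)
  let bZ : Module.Basis t k Ω[k⁄ℤ] := bF.map eS.symm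
  have hbZ : ∀ i, bZ i = D ℤ k (a i) := fun i => eS.injective (by
    rw [Module.Basis.map_apply, LinearEquiv.apply_symm_apply, Module.Basis.mk_apply]
    exact (KaehlerDifferential.map_D ℤ F k k (a i)).symm)
  let K := ResidueField L
  let bK := Algebra.TensorProduct.basis K (Algebra.TensorProduct.basis L bZ)
  let fK := TensorProduct.AlgebraTensorModule.lTensor K K (mapBaseChange ℤ k L)
  have hfK : Function.Injective fK := hinj
  let e : K ⊗[L] Ω[L⁄ℤ] ≃ₗ[K] K ⊗[L] Ω[L⁄F] :=
    TensorProduct.AlgebraTensorModule.congr (LinearEquiv.refl K K) eT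
  have hb := (bK.linearIndependent.map' fK (LinearMap.ker_eq_bot.2 hfK)).map' e.toLinearMap e.ker
  have heq : (e.toLinearMap ∘ fK ∘ bK) = fun i => (1 : K) ⊗ₜ[L] D F L (algebraMap k L (a i)) := by
    funext i
    simp only [Function.comp_apply, bK, fK, e, Algebra.TensorProduct.basis_apply,
      TensorProduct.AlgebraTensorModule.lTensor_tmul, LinearEquiv.coe_toLinearMap,
      TensorProduct.AlgebraTensorModule.congr_tmul, LinearEquiv.refl_apply, mapBaseChange_tmul, one_smul, hbZ,
      KaehlerDifferential.map_D, eT, LinearEquiv.ofBijective_apply]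
    rfl
  have hb' : LinearIndependent K fun i => (1 : K) ⊗ₜ[L] D F L (algebraMap k L (a i)) := by
    rw [← heq]; exact hb
  exact hb'.comp (fun b : Set.range a => b.2.choose) (fun b c hbc => Subtype.ext (by
    rw [← b.2.choose_spec, ← c.2.choose_spec]
    exact congrArg a hbc)) |> fun h => by
    convert h using 1
    funext b
    simp only [Function.comp_apply, b.2.choose_spec]

/-- The differential modulo the maximal ideal kills its square. -/
theorem tmul_D_eq_zero {F L : Type u} [Field F] [CommRing L] [IsLocalRing L] [Algebra F L] {z : L}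
    (hz : z ∈ maximalIdeal L ^ 2) : (1 : ResidueField L) ⊗ₜ[L] D F L z = 0 := by
  have h0 : ∀ (u : L), u ∈ maximalIdeal L → ∀ ω : Ω[L⁄F], (1 : ResidueField L) ⊗ₜ[L] (u • ω) = 0 :=
    fun u hu ω => by
      rw [TensorProduct.tmul_smul, TensorProduct.smul_tmul', ← Algebra.algebraMap_eq_smul_one,
        ResidueField.algebraMap_eq, (residue_eq_zero_iff u).2 hu, TensorProduct.zero_tmul]
  rw [pow_two] at hz
  refine Submodule.mul_induction_on hz (fun a ha b hb => ?_) (fun a b ha hb => ?_)
  · rw [Derivation.leibniz, TensorProduct.tmul_add, h0 a ha, h0 b hb, add_zero]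
  · rw [map_add, TensorProduct.tmul_add, ha, hb, add_zero]

/-- Coefficient vectors independent over a field stay independent over an extension. -/
theorem indep_mapRange {κ K β : Type*} {σ : Type*} [Field κ] [Field K] [Algebra κ K] [Fintype σ]
    (c : σ → (β →₀ κ)) (hc : LinearIndependent κ c) (r : σ → K)
    (h : ∀ b, ∑ l, r l * algebraMap κ K (c l b) = 0) : ∀ l, r l = 0 := by
  classical
  obtain ⟨g, hg⟩ := LinearMap.exists_leftInverse_of_injective (Fintype.linearCombination κ c)
    (LinearMap.ker_eq_bot.2 (linearIndependent_iff_injective_fintypeLinearCombination.1 hc) |>.trans rfl)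
  intro m
  have hg' : ∀ l, g (c l) = Pi.single l 1 := fun l => by
    have := LinearMap.congr_fun hg (Pi.single l 1)
    simpa [Fintype.linearCombination_apply_single] using this
  have hexp : ∀ l, algebraMap κ K (g (c l) m) = ∑ b ∈ Finset.univ.biUnion fun l => (c l).support,
      algebraMap κ K (c l b) * algebraMap κ K (g (Finsupp.single b 1) m) := fun l => by
    have h1 : c l = ∑ b ∈ Finset.univ.biUnion fun l => (c l).support, c l b • Finsupp.single b 1 := by
      conv_lhs => rw [← Finsupp.sum_single (c l)]
      rw [Finsupp.sum, Finset.sum_subset (Finset.subset_biUnion_of_mem (fun l => (c l).support) (Finset.mem_univ l))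
        (fun b _ hb => by rw [Finsupp.notMem_support_iff.1 hb, Finsupp.single_zero])]
      exact Finset.sum_congr rfl fun b _ => by rw [Finsupp.smul_single, smul_eq_mul, mul_one]
    conv_lhs => rw [h1]
    simp only [map_sum, map_smul, Finset.sum_apply, Pi.smul_apply, smul_eq_mul, map_mul]
  calc r m = ∑ l, r l * algebraMap κ K (g (c l) m) := by
        simp_rw [hg']
        rw [Finset.sum_eq_single m (fun l _ hl => by simp [Pi.single_eq_of_ne (Ne.symm hl)]) (by simp)]
        simp
    _ = ∑ b ∈ Finset.univ.biUnion fun l => (c l).support,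
          (∑ l, r l * algebraMap κ K (c l b)) * algebraMap κ K (g (Finsupp.single b 1) m) := by
        simp_rw [hexp, Finset.mul_sum, Finset.sum_mul]
        rw [Finset.sum_comm]
        simp_rw [mul_assoc]
    _ = 0 := by simp [h]

/-- Independence passes along a pair of maps detecting the two halves of a spanning family. -/
theorem indep_of_maps {κ K U V W β γ σ : Type*} [Field κ] [Field K] [Algebra κ K] [AddCommGroup U] [Module κ U]
    [AddCommGroup V] [Module K V] [AddCommGroup W] [Module κ W]
    [Fintype γ] [Fintype σ] (ΘV : U →ₛₗ[algebraMap κ K] V) (ΘW : U →ₗ[κ] W) (w : β ⊕ γ → U)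
    (hv : LinearIndependent K fun b => ΘV (w (Sum.inl b))) (hl : ∀ b, ΘW (w (Sum.inl b)) = 0)
    (hr : LinearIndependent κ fun i => ΘW (w (Sum.inr i))) (u : σ → U) (hu : LinearIndependent κ u)
    (hspan : ∀ l, u l ∈ Submodule.span κ (Set.range w)) (hu0 : ∀ l, ΘW (u l) = 0) :
    LinearIndependent K fun l => ΘV (u l) := by
  classical
  have hcoord : ∀ l, ∃ c : β →₀ κ, Finsupp.linearCombination κ (fun b => w (Sum.inl b)) c = u l := by
    intro l
    have h := hspan l
    rw [show Set.range w = Set.range (fun b => w (Sum.inl b)) ∪ Set.range (fun i => w (Sum.inr i)) by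
        ext x; simp [Sum.exists], Submodule.span_union, Submodule.mem_sup] at h
    obtain ⟨x, hx, y, hy, hxy⟩ := h
    obtain ⟨c, hc⟩ := (Submodule.mem_span_range_iff_exists_fun κ).1 hy
    obtain ⟨d, rfl⟩ := Finsupp.mem_span_range_iff_exists_finsupp.1 hx
    have h0 := hu0 l
    rw [← hxy, map_add, map_finsuppSum, ← hc, map_sum] at h0
    simp only [map_smul, hl, smul_zero, Finsupp.sum_fun_zero, zero_add] at h0
    have hc0 := Fintype.linearIndependent_iff.1 hr c h0
    refine ⟨d, ?_⟩
    rw [Finsupp.linearCombination_apply, ← hxy, ← hc]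
    simp [hc0]
  choose c hc using hcoord
  have hc' : LinearIndependent κ c := by
    refine LinearIndependent.of_comp (Finsupp.linearCombination κ fun b => w (Sum.inl b)) ?_
    rw [show (Finsupp.linearCombination κ fun b => w (Sum.inl b)) ∘ c = u from funext hc]
    exact hu
  rw [Fintype.linearIndependent_iff]
  intro r hr'
  refine indep_mapRange c hc' r fun b => ?_
  have h3 : Finsupp.linearCombination K (fun b => ΘV (w (Sum.inl b)))
      (∑ l, r l • (c l).mapRange (algebraMap κ K) (map_zero _)) = 0 := by
    rw [← hr', map_sum]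
    refine Finset.sum_congr rfl fun l _ => ?_
    rw [map_smul, ← hc l, Finsupp.linearCombination_apply,
      Finsupp.linearCombination_apply, Finsupp.sum_mapRange_index (h := fun i a => a • ΘV (w (Sum.inl i))) (fun _ => zero_smul K _),
      map_finsuppSum]
    congr 1
    exact Finsupp.sum_congr fun b _ => by rw [map_smulₛₗ]
  have h4 := DFunLike.congr_fun (linearIndependent_iff.1 hv _ h3) b
  simpa only [Finsupp.coe_finsetSum, Finset.sum_apply, Finsupp.coe_smul, Pi.smul_apply, smul_eq_mul,
    Finsupp.mapRange_apply, Finsupp.coe_zero, Pi.zero_apply] using h4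

/-- A semilinear map out of a base change. -/
theorem exists_semilinear {R κ K M V : Type*} [CommRing R] [Field κ] [Field K] [Algebra R κ] [Algebra κ K]
    [AddCommGroup M] [Module R M] [AddCommGroup V] [Module K V] (g : M →+ V)
    (hg : ∀ (r : R) (m : M), g (r • m) = algebraMap κ K (algebraMap R κ r) • g m) :
    ∃ Θ : κ ⊗[R] M →ₛₗ[algebraMap κ K] V, ∀ m, Θ ((1 : κ) ⊗ₜ m) = g m := by
  letI : Module κ V := Module.compHom V (algebraMap κ K)
  letI : Module R V := Module.compHom V ((algebraMap κ K).comp (algebraMap R κ))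
  haveI : IsScalarTower R κ V := IsScalarTower.of_algebraMap_smul fun r v => rfl
  let g' : M →ₗ[R] V := { g with map_smul' := fun r m => hg r m }
  let Θ := g'.liftBaseChange κ
  exact ⟨{ toFun := Θ, map_add' := map_add Θ, map_smul' := fun c x => map_smul Θ c x },
    fun m => by
      show g'.liftBaseChange κ ((1 : κ) ⊗ₜ[R] m) = g m
      rw [LinearMap.liftBaseChange_tmul, one_smul]
      rfl⟩

/-- Differentials of a localized polynomial ring are spanned by those of the constants and the variables. -/
theorem D_mem_span_localization {F k : Type u} {ι₀ : Type*} [Field F] [Field k] [Algebra F k]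
    (B : Set k) (hB : Submodule.span k (D F k '' B) = ⊤) (Qp : Type u) [CommRing Qp]
    [Algebra (MvPolynomial ι₀ k) Qp] [Algebra k Qp] [IsScalarTower k (MvPolynomial ι₀ k) Qp]
    [Algebra F Qp] [IsScalarTower F k Qp] (M : Submonoid (MvPolynomial ι₀ k)) [IsLocalization M Qp] (z : Qp) :
    D F Qp z ∈ Submodule.span Qp (Set.range (Sum.elim (fun b : B => D F Qp (algebraMap k Qp b))
      (fun i : ι₀ => D F Qp (algebraMap (MvPolynomial ι₀ k) Qp (X i))))) := by
  set w := Sum.elim (fun b : B => D F Qp (algebraMap k Qp b))
    (fun i : ι₀ => D F Qp (algebraMap (MvPolynomial ι₀ k) Qp (X i)))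
  let S := Submodule.span Qp (Set.range w)
  have hC : ∀ c : k, D F Qp (algebraMap k Qp c) ∈ S := fun c => by
    have hc : D F k c ∈ Submodule.span k (D F k '' B) := hB ▸ Submodule.mem_top
    have hmap := Submodule.mem_map_of_mem (f := KaehlerDifferential.map F F k Qp) hc
    rw [KaehlerDifferential.map_D, Submodule.map_span] at hmap
    refine (Submodule.span_le (p := S.restrictScalars k)).2 ?_ hmap
    rintro _ ⟨_, ⟨b, hb, rfl⟩, rfl⟩
    show KaehlerDifferential.map F F k Qp (D F k b) ∈ S
    rw [KaehlerDifferential.map_D]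
    exact Submodule.subset_span ⟨Sum.inl ⟨b, hb⟩, rfl⟩
  have hQ : ∀ q : MvPolynomial ι₀ k, D F Qp (algebraMap _ Qp q) ∈ S := fun q => by
    induction q using MvPolynomial.induction_on with
    | C c => rw [← MvPolynomial.algebraMap_eq, ← IsScalarTower.algebraMap_apply k (MvPolynomial ι₀ k) Qp]; exact hC c
    | add a b ha hb => rw [map_add, map_add]; exact add_mem ha hb
    | mul_X a i ha =>
      rw [map_mul, Derivation.leibniz]
      exact add_mem (Submodule.smul_mem _ _ (Submodule.subset_span ⟨Sum.inr i, rfl⟩)) (Submodule.smul_mem _ _ ha)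
  obtain ⟨⟨a, s⟩, hs⟩ := IsLocalization.surj M z
  have h1 := hQ a
  rw [← hs, Derivation.leibniz] at h1
  have h2 := (Submodule.add_mem_iff_right S (Submodule.smul_mem S z (hQ s))).1 h1
  exact (Submodule.smul_mem_iff_of_isUnit S (IsLocalization.map_units Qp s)).1 h2

/-- A linear map out of a base change of differentials spans. -/
theorem tmul_mem_span {R κ M β : Type*} [CommRing R] [CommRing κ] [Algebra R κ] [AddCommGroup M] [Module R M]
    (w : β → M) (x : M) (hx : x ∈ Submodule.span R (Set.range w)) :
    (1 : κ) ⊗ₜ[R] x ∈ Submodule.span κ (Set.range fun i => (1 : κ) ⊗ₜ[R] w i) := by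
  have h1 := Submodule.mem_map_of_mem (f := TensorProduct.mk R κ M 1) hx
  rw [Submodule.map_span, ← Set.range_comp] at h1
  exact Submodule.span_le_restrictScalars R κ _ h1

/-- Independent cotangent vectors have independent differentials. -/
theorem indep_tmul_D {F R : Type u} {σ : Type*} [Fintype σ] [Field F] [CommRing R] [IsLocalRing R] [Algebra F R]
    [Algebra.FormallySmooth F R] [Algebra.FormallySmooth F (ResidueField R)] (f : σ → maximalIdeal R)
    (hf : LinearIndependent (ResidueField R) fun l => (maximalIdeal R).toCotangent (f l)) :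
    LinearIndependent (ResidueField R) fun l => (1 : ResidueField R) ⊗ₜ[R] D F R (f l : R) := by
  obtain ⟨l', hl'⟩ := (Algebra.FormallySmooth.iff_split_injection (R := F) (P := R) (A := ResidueField R)
    IsLocalRing.residue_surjective).1 inferInstance
  have hker : RingHom.ker (algebraMap R (ResidueField R)) = maximalIdeal R := IsLocalRing.ker_residue
  rw [Fintype.linearIndependent_iff]
  intro μ hμ l
  choose μ' hμ' using fun l => IsLocalRing.residue_surjective (μ l)
  have hzm : ∑ l, μ' l * (f l : R) ∈ RingHom.ker (algebraMap R (ResidueField R)) := by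
    rw [hker]; exact Ideal.sum_mem _ fun l _ => Ideal.mul_mem_left _ _ (f l).2
  have hc : kerCotangentToTensor F R (ResidueField R)
      ((RingHom.ker (algebraMap R (ResidueField R))).toCotangent ⟨_, hzm⟩) = 0 := by
    rw [kerCotangentToTensor_toCotangent]
    rw [← hμ, map_sum, TensorProduct.tmul_sum]
    refine Finset.sum_congr rfl fun l _ => ?_
    rw [Derivation.leibniz, TensorProduct.tmul_add, TensorProduct.tmul_smul, TensorProduct.smul_tmul',
      TensorProduct.tmul_smul, TensorProduct.smul_tmul', ← Algebra.algebraMap_eq_smul_one,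
      ← Algebra.algebraMap_eq_smul_one, ResidueField.algebraMap_eq,
      (residue_eq_zero_iff _).2 (f l).2, TensorProduct.zero_tmul, add_zero, hμ',
      TensorProduct.smul_tmul', smul_eq_mul, mul_one]
  have hz := congrArg l' hc
  rw [← LinearMap.comp_apply, hl', LinearMap.id_apply, map_zero, Ideal.toCotangent_eq_zero] at hz
  replace hz : ∑ l, μ' l * (f l : R) ∈ maximalIdeal R ^ 2 := SetLike.le_def.1 (congrArg (· ^ 2) hker).le hz
  have h3 : ∑ l, μ l • (maximalIdeal R).toCotangent (f l) = 0 := by
    have : ∑ l, μ l • (maximalIdeal R).toCotangent (f l) =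
        (maximalIdeal R).toCotangent (∑ l, μ' l • f l) := by
      rw [map_sum]
      refine Finset.sum_congr rfl fun l _ => ?_
      rw [map_smul, ← hμ' l, ← ResidueField.algebraMap_eq, algebraMap_smul]
    rw [this, Ideal.toCotangent_eq_zero, Submodule.coe_sum]
    simpa only [SetLike.val_smul, smul_eq_mul] using hz
  exact Fintype.linearIndependent_iff.1 hf μ h3 l

/-- Generators of a prime forming a cotangent basis. -/
theorem exists_cotangent_basis {Q : Type u} [CommRing Q] [IsNoetherianRing Q] (p : Ideal Q) [p.IsPrime] :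
    ∃ (h : ℕ) (f : Fin h → Q) (hf : ∀ l, algebraMap Q (Localization.AtPrime p) (f l) ∈ maximalIdeal _),
      (∀ l, f l ∈ p) ∧
      Ideal.span (Set.range fun l => algebraMap Q (Localization.AtPrime p) (f l)) = maximalIdeal _ ∧
      LinearIndependent (ResidueField (Localization.AtPrime p))
        fun l => (maximalIdeal (Localization.AtPrime p)).toCotangent ⟨_, hf l⟩ := by
  classical
  let Qp := Localization.AtPrime p
  let κ := ResidueField Qp
  obtain ⟨G, hG⟩ := (IsNoetherian.noetherian p : p.FG)
  have hGp : ∀ g ∈ G, g ∈ p := fun g hg => hG ▸ Submodule.subset_span hg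
  have hmax : p.map (algebraMap Q Qp) = maximalIdeal Qp := Localization.AtPrime.map_eq_maximalIdeal
  have hmem : ∀ g : G, algebraMap Q Qp g ∈ maximalIdeal Qp := fun g => hmax ▸ Ideal.mem_map_of_mem _ (hGp g g.2)
  let cG : G → CotangentSpace Qp := fun g => (maximalIdeal Qp).toCotangent ⟨_, hmem g⟩
  obtain ⟨t, a, ha, hspan, hli⟩ := exists_linearIndependent' κ cG
  have hspanG : Submodule.span κ (Set.range cG) = ⊤ := by
    have : (Set.range cG) = (maximalIdeal Qp).toCotangent '' Set.range (fun g : G =>
        (⟨algebraMap Q Qp g, hmem g⟩ : maximalIdeal Qp)) := by rw [← Set.range_comp]; rfl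
    rw [this, CotangentSpace.span_image_eq_top_iff, ← (Submodule.map_injective_of_injective
      (maximalIdeal Qp).injective_subtype).eq_iff, Submodule.map_span, ← Set.range_comp, Submodule.map_top,
      Submodule.range_subtype]
    show Ideal.span (Set.range fun g : G => algebraMap Q Qp g) = maximalIdeal Qp
    refine Eq.trans ?_ ((congrArg (Ideal.map (algebraMap Q Qp)) hG).trans hmax)
    rw [← Ideal.span, Ideal.map_span]
    refine congrArg Ideal.span (Set.ext fun x => ?_)
    constructor
    · rintro ⟨g, rfl⟩; exact ⟨g, g.2, rfl⟩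
    · rintro ⟨g, hg, rfl⟩; exact ⟨⟨g, hg⟩, rfl⟩
  haveI : Finite t := Finite.of_injective a ha
  letI : Fintype t := Fintype.ofFinite t
  let e := (Fintype.equivFin t).symm
  refine ⟨Fintype.card t, fun l => a (e l), fun l => hmem _, fun l => hGp _ (a (e l)).2, ?_,
    hli.comp e e.injective⟩
  have h1 : Submodule.span κ ((maximalIdeal Qp).toCotangent '' Set.range (fun l =>
      (⟨algebraMap Q Qp (a (e l)), hmem (a (e l))⟩ : maximalIdeal Qp))) = ⊤ := by
    rw [← hspanG, ← hspan, ← Set.range_comp, ← (e.surjective).range_comp (cG ∘ a)]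
    rfl
  rw [CotangentSpace.span_image_eq_top_iff] at h1
  have h2 := congrArg (Submodule.map (maximalIdeal Qp).subtype) h1
  rw [Submodule.map_span, ← Set.range_comp, Submodule.map_top, Submodule.range_subtype] at h2
  exact h2

end Smoothing.Insep
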