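import Groth.Agent.Lib.Smoothing.Insep.Pieces
import Groth.Agent.Lib.Smoothing.Insep.Parameters
import Groth.Agent.Lib.PBasis.Perfect
import Groth.Agent.Lib.RegLoc.Basic

/-!
# Global parameters and coefficient fields fixing global elements
-/

set_option autoImplicit false
set_option backward.isDefEq.respectTransparency false
set_option maxHeartbeats 800000

universe u

open scoped TensorProduct
open KaehlerDifferential IsLocalRing

namespace Smoothing.Insep

/-- A coefficient field that fixes enough elements of the ground field and of the global ring. -/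
theorem exists_section_global {F k Λ K T : Type u} [Field F] [Field k] [CommRing Λ] [Field K] [CommRing T]
    (p : ℕ) [Fact p.Prime] [CharP F p] [CharP K p] [PerfectRing F p]
    [Algebra F k] [Algebra F K] [Algebra F T] [Algebra k K] [Algebra k T] [IsScalarTower F k K]
    [IsScalarTower F k T] [Algebra Λ K] [Algebra Λ T]
    (hfrac : ∀ c : K, ∃ a b : Λ, algebraMap Λ K b ≠ 0 ∧ c * algebraMap Λ K b = algebraMap Λ K a)
    (π : T →ₐ[k] K) (hπ : Function.Surjective π) (hπΛ : ∀ l, π (algebraMap Λ T l) = algebraMap Λ K l)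
    (hn : IsNilpotent (RingHom.ker π.toRingHom)) (s : Set k)
    (hs : LinearIndependent K fun b : s => D F K (algebraMap k K b)) :
    ∃ (σ : K →ₐ[F] T) (S : Set Λ), (∀ x, π (σ x) = x) ∧ (∀ b ∈ s, σ (algebraMap k K b) = algebraMap k T b) ∧
      (∀ l ∈ S, σ (algebraMap Λ K l) = algebraMap Λ T l) ∧
      Submodule.span K (D F K '' (algebraMap k K '' s ∪ algebraMap Λ K '' S)) = ⊤ := by
  classical
  let x₀ : s ⊕ Λ → K := Sum.elim (fun b => algebraMap k K b) (algebraMap Λ K)
  let v : s ⊕ Λ → Ω[K⁄F] := fun i => D F K (x₀ i)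
  have hinl : LinearIndepOn K v (Set.range (Sum.inl : s → s ⊕ Λ)) := by
    rw [linearIndepOn_range_iff Sum.inl_injective]
    exact hs
  obtain ⟨b, -, hsb, hspan, hli⟩ := exists_linearIndepOn_extension hinl (Set.subset_univ _)
  have hall : Submodule.span K (v '' b) = ⊤ := by
    rw [eq_top_iff, ← KaehlerDifferential.span_range_derivation F K, Submodule.span_le]
    rintro _ ⟨c, rfl⟩
    obtain ⟨a, d, hd, hc⟩ := hfrac c
    have hmem : ∀ l : Λ, D F K (algebraMap Λ K l) ∈ Submodule.span K (v '' b) := fun l =>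
      hspan ⟨Sum.inr l, Set.mem_univ _, rfl⟩
    have h1 := hmem a
    rw [← hc, Derivation.leibniz] at h1
    have h2 := (Submodule.add_mem_iff_right _ (Submodule.smul_mem _ c (hmem d))).1 h1
    exact (Submodule.smul_mem_iff _ hd).1 h2
  let x : b → K := fun i => x₀ i
  have hx : EGA41.IsPBasis p F x := by
    refine ⟨(GrothLib.PBasis.isPIndependent_iff_linearIndependent (p := p) (k := F) x).2 hli,
      (GrothLib.PBasis.isPGenerating_iff_span (p := p) (k := F) x).2 ?_⟩
    rw [← hall]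
    refine congrArg (Submodule.span K) ?_
    ext z
    constructor
    · rintro ⟨i, rfl⟩; exact ⟨i, i.2, rfl⟩
    · rintro ⟨i, hi, rfl⟩; exact ⟨⟨i, hi⟩, rfl⟩
  let z : b → T := fun i => Sum.elim (fun c : s => algebraMap k T c) (algebraMap Λ T) i.1
  obtain ⟨σ, ⟨hσ1, hσ2⟩, -⟩ :=
    GrothLib.PBasis.liftsUniquely_of_isNilpotent hx (RingHom.ker π.toRingHom) hn K (π.restrictScalars F) hπ rfl
      (AlgHom.id F K) z (by
        rintro ⟨i, hi⟩
        rcases i with c | l
        · exact π.commutes (c : k)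
        · exact hπΛ l)
  refine ⟨σ, {l | Sum.inr l ∈ b}, fun y => AlgHom.congr_fun hσ1 y, fun c hc => ?_, fun l hl => ?_, ?_⟩
  · exact hσ2 ⟨Sum.inl ⟨c, hc⟩, hsb ⟨⟨c, hc⟩, rfl⟩⟩
  · exact hσ2 ⟨Sum.inr l, hl⟩
  · rw [eq_top_iff, ← hall, Submodule.span_le]
    rintro _ ⟨i, hi, rfl⟩
    refine Submodule.subset_span ⟨x₀ i, ?_, rfl⟩
    rcases i with c | l
    · exact Or.inl ⟨c, c.2, rfl⟩
    · exact Or.inr ⟨l, hi, rfl⟩

/-- Parameters of a localization taken from the ring. -/
theorem exists_parameters_global {Λ : Type u} [CommRing Λ] [IsNoetherianRing Λ] (𝔮 : Ideal Λ) [𝔮.IsPrime]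
    [IsRegularLocalRing (Localization.AtPrime 𝔮)] (d : ℕ) (hd : ringKrullDim (Localization.AtPrime 𝔮) = d) :
    ∃ x : Fin d → Λ, (∀ i, x i ∈ 𝔮) ∧
      Ideal.span (Set.range fun i => algebraMap Λ (Localization.AtPrime 𝔮) (x i)) =
        maximalIdeal (Localization.AtPrime 𝔮) := by
  classical
  let L := Localization.AtPrime 𝔮
  have hfr : (maximalIdeal L).spanFinrank = d := by
    have h := IsRegularLocalRing.spanFinrank_maximalIdeal (R := L)
    rw [hd] at h
    exact_mod_cast h
  obtain ⟨z, hz⟩ := GrothLib.RegLoc.exists_generators_fin (maximalIdeal L)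
  let z' : Fin d → L := z ∘ finCongr hfr.symm
  have hz' : Ideal.span (Set.range z') = maximalIdeal L := by
    rw [(finCongr hfr.symm).surjective.range_comp]; exact hz
  choose a ha using fun i => IsLocalization.surj 𝔮.primeCompl (z' i)
  have haq : ∀ i, (a i).1 ∈ 𝔮 := fun i => by
    rw [← IsLocalization.AtPrime.to_map_mem_maximal_iff L 𝔮, ← ha i]
    exact Ideal.mul_mem_right _ _ (hz' ▸ Ideal.subset_span ⟨i, rfl⟩)
  refine ⟨fun i => (a i).1, haq, le_antisymm (Ideal.span_le.2 ?_) ?_⟩
  · rintro _ ⟨i, rfl⟩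
    exact (IsLocalization.AtPrime.to_map_mem_maximal_iff L 𝔮 _).2 (haq i)
  · rw [← hz', Ideal.span_le]
    rintro _ ⟨i, rfl⟩
    refine (Ideal.mul_unit_mem_iff_mem _ (IsLocalization.map_units L (a i).2)).1 ?_
    rw [ha i]
    exact Ideal.subset_span ⟨i, rfl⟩

end Smoothing.Insep
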